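import Cfsg.Agent.Lib.StBlocks.SLBasic
import Cfsg.Agent.Lib.ChevBN.Core

/-!
The `(B,N)`-pair of `SL_n(F)`.
-/

set_option autoImplicit false
set_option linter.unusedSectionVars false
set_option linter.unusedSimpArgs false

namespace Cfsg.Agent.Lib.StBlocks.SLPair

open Matrix Cfsg Cfsg.Agent.Lib.Linalg.AutPSLSylow Cfsg.Agent.Lib.StBlocks.SLBasic
open Cfsg.Agent.Lib.ChevBN.Core

variable {m : ℕ} {F : Type*} [Field F]

local notation "SLG" => Matrix.SpecialLinearGroup (Fin (m + 2)) F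
local notation "tv" => Matrix.SpecialLinearGroup.transvection

theorem hi (i : Fin (m + 1)) : i.castSucc ≠ i.succ := (Fin.castSucc_lt_succ).ne

/-- The simple reflections. -/
def sw (i : Fin (m + 1)) : Equiv.Perm (Fin (m + 2)) := Equiv.swap i.castSucc i.succ

noncomputable def xx (i : Fin (m + 1)) (a : F) : SLG := tv (hi i) a

noncomputable def eE (i : Fin (m + 1)) : SLG := ee (hi i)

noncomputable def hE (i : Fin (m + 1)) (a : F) : SLG := hh (hi i) a

theorem isMon_ee {n : ℕ} {a b : Fin n} (hab : a ≠ b) : IsMon (ee hab : Matrix.SpecialLinearGroup (Fin n) F) (Equiv.swap a b) := by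
  intro r c
  rw [ee_coe]
  simp only [Phi, Matrix.of_apply, Equiv.swap_apply_def]
  split_ifs <;> simp_all <;> (intro h; subst h; simp_all)

theorem isMon_hh {n : ℕ} {a b : Fin n} (hab : a ≠ b) {c : F} (hc : c ≠ 0) :
    IsMon (hh hab c : Matrix.SpecialLinearGroup (Fin n) F) 1 := by
  intro r k
  rw [hh_coe hab hc]
  simp only [Phi, Matrix.of_apply, Equiv.Perm.one_apply]
  split_ifs <;> simp_all <;> (intro h; subst h; simp_all)

theorem isMon_eE (i : Fin (m + 1)) : IsMon (eE i : SLG) (sw i) := isMon_ee (hi i)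

theorem isMon_hE (i : Fin (m + 1)) {a : F} (ha : a ≠ 0) : IsMon (hE i a : SLG) 1 := isMon_hh (hi i) ha

theorem sw_lt (i : Fin (m + 1)) {c r : Fin (m + 2)} (h : c < r)
    (hne : ¬ (c = i.castSucc ∧ r = i.succ)) : sw i c < sw i r := by
  simp only [sw, Equiv.swap_apply_def]
  split_ifs <;> simp only [Fin.ext_iff, Fin.lt_def, Fin.val_castSucc, Fin.val_succ] at * <;> omega

theorem isUT_tv {n : ℕ} {k l : Fin n} (h : k < l) (a : F) :
    IsUT (tv (ne_of_lt h) a : Matrix.SpecialLinearGroup (Fin n) F) := by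
  constructor
  · intro r c hc
    rw [tv_apply]
    have h1 : r ≠ c := (ne_of_lt hc).symm
    have h2 : ¬ (r = k ∧ c = l) := by
      rintro ⟨rfl, rfl⟩
      exact absurd h (not_lt.2 hc.le)
    simp [h1, h2]
  · intro r
    rw [tv_apply]
    have h2 : ¬ (r = k ∧ r = l) := by
      rintro ⟨rfl, h3⟩
      exact (ne_of_lt h) h3
    simp [h2]

theorem tv_conj_ee {n : ℕ} {a b : Fin n} (hab : a ≠ b) (t : F) :
    (ee hab : Matrix.SpecialLinearGroup (Fin n) F) * tv hab t * (ee hab)⁻¹ = tv hab.symm (-t) := by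
  apply Subtype.ext
  rw [ee_inv, Matrix.SpecialLinearGroup.coe_mul, Matrix.SpecialLinearGroup.coe_mul, ee_coe, tv_coe_Phi hab, nn_coe hab (by simp),
    tv_symm_coe_Phi hab, Phi_mul hab, Phi_mul hab]
  congr 1 <;> simp

variable [Finite F]

/-- The diagonal subgroup. -/
def Hsub (n : ℕ) (F : Type*) [Field F] [Finite F] : Subgroup (Matrix.SpecialLinearGroup (Fin n) F) where
  carrier := {g | IsMon g 1}
  mul_mem' := fun {a b} ha hb => by
    have := IsMon.mul ha hb
    rwa [mul_one] at this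
  one_mem' := isMon_one
  inv_mem' := fun {a} ha => by
    have := IsMon.inv ha
    rwa [inv_one] at this

theorem mem_Hsub {n : ℕ} {g : Matrix.SpecialLinearGroup (Fin n) F} : g ∈ Hsub n F ↔ IsMon g 1 := Iff.rfl

theorem Hsub_le_Nsub {n : ℕ} : Hsub n F ≤ Nsub n F := fun _ h => ⟨1, h⟩

theorem inv_mem_of_finite {G : Type*} [Group G] [Finite G] (M : Submonoid G) {s : G} (hs : s ∈ M) :
    s⁻¹ ∈ M := by
  have h1 : s⁻¹ = s ^ (orderOf s - 1) := by
    have h0 : 0 < orderOf s := orderOf_pos s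
    apply inv_eq_of_mul_eq_one_left
    rw [← pow_succ, Nat.sub_add_cancel h0, pow_orderOf_eq_one]
  rw [h1]
  exact M.pow_mem hs _

/-- The root group of a simple root. -/
def Xg (i : Fin (m + 1)) : Subgroup SLG where
  carrier := {g | ∃ a, g = xx i a}
  mul_mem' := by
    rintro _ _ ⟨a, rfl⟩ ⟨b, rfl⟩
    exact ⟨a + b, (Matrix.SpecialLinearGroup.transvection_add _ _ _).symm⟩
  one_mem' := ⟨0, (Matrix.SpecialLinearGroup.transvection_coeff_zero _).symm⟩
  inv_mem' := by
    rintro _ ⟨a, rfl⟩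
    exact ⟨-a, Matrix.SpecialLinearGroup.transvection_inv _ _⟩

/-- The complement of the root group of a simple root. -/
def Yg (i : Fin (m + 1)) : Subgroup SLG where
  carrier := {g | IsUT g ∧ (g : Matrix (Fin (m + 2)) (Fin (m + 2)) F) i.castSucc i.succ = 0}
  mul_mem' := by
    rintro a b ⟨ha, ha0⟩ ⟨hb, hb0⟩
    refine ⟨ha.mul hb, ?_⟩
    rw [Matrix.SpecialLinearGroup.coe_mul, Matrix.mul_apply]
    apply Finset.sum_eq_zero
    intro k _
    by_cases h1 : k < i.castSucc
    · rw [ha.1 _ _ h1, zero_mul]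
    · by_cases h2 : i.succ < k
      · rw [hb.1 _ _ h2, mul_zero]
      · have h3 : k = i.castSucc ∨ k = i.succ := by
          simp only [Fin.lt_def, Fin.val_castSucc, Fin.val_succ, Fin.ext_iff] at *
          omega
        rcases h3 with rfl | rfl
        · rw [hb0, mul_zero]
        · rw [ha0, zero_mul]
  one_mem' := by
    refine ⟨isUT_one, ?_⟩
    simp [hi i]
  inv_mem' := by
    intro s hs
    let M : Submonoid SLG :=
      { carrier := {g | IsUT g ∧ (g : Matrix (Fin (m + 2)) (Fin (m + 2)) F) i.castSucc i.succ = 0}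
        mul_mem' := by
          rintro a b ⟨ha, ha0⟩ ⟨hb, hb0⟩
          refine ⟨ha.mul hb, ?_⟩
          rw [Matrix.SpecialLinearGroup.coe_mul, Matrix.mul_apply]
          apply Finset.sum_eq_zero
          intro k _
          by_cases h1 : k < i.castSucc
          · rw [ha.1 _ _ h1, zero_mul]
          · by_cases h2 : i.succ < k
            · rw [hb.1 _ _ h2, mul_zero]
            · have h3 : k = i.castSucc ∨ k = i.succ := by
                simp only [Fin.lt_def, Fin.val_castSucc, Fin.val_succ, Fin.ext_iff] at *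
                omega
              rcases h3 with rfl | rfl
              · rw [hb0, mul_zero]
              · rw [ha0, zero_mul]
        one_mem' := by
          refine ⟨isUT_one, ?_⟩
          simp [hi i] }
    exact inv_mem_of_finite M hs

theorem mem_Yg {i : Fin (m + 1)} {g : SLG} :
    g ∈ Yg i ↔ IsUT g ∧ (g : Matrix (Fin (m + 2)) (Fin (m + 2)) F) i.castSucc i.succ = 0 := Iff.rfl

theorem eE_injective : Function.Injective (eE : Fin (m + 1) → SLG) := by
  intro i j h
  have h1 := (isMon_eE i).unique (h ▸ isMon_eE j)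
  have h2 := congrArg (fun σ : Equiv.Perm (Fin (m + 2)) => σ i.castSucc) h1
  simp only [sw, Equiv.swap_apply_left, Equiv.swap_apply_def] at h2
  split_ifs at h2 with h3 h4
  · apply Fin.ext
    simpa [Fin.ext_iff] using h3
  · exfalso
    simp only [Fin.ext_iff, Fin.val_castSucc, Fin.val_succ] at h2 h4
    omega
  · exfalso
    exact hi i h2.symm

theorem conj_mem_USL {g u : SLG} {π : Equiv.Perm (Fin (m + 2))} (hg : IsMon g π) (hu : IsUT u)
    (h : ∀ r c, c < r → (u : Matrix (Fin (m + 2)) (Fin (m + 2)) F) (π⁻¹ r) (π⁻¹ c) = 0) :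
    IsUT (g * u * g⁻¹) := by
  constructor
  · intro r c hc
    rw [Matrix.SpecialLinearGroup.coe_mul, Matrix.SpecialLinearGroup.coe_mul, hg.conj_apply, h r c hc]
    simp
  · intro r
    rw [Matrix.SpecialLinearGroup.coe_mul, Matrix.SpecialLinearGroup.coe_mul, hg.conj_apply, hu.2, mul_one]
    exact hg.diag_mul r

theorem sw_inv (i : Fin (m + 1)) : (sw i)⁻¹ = sw i := Equiv.swap_inv _ _

theorem conj_Yg {i : Fin (m + 1)} {u : SLG} (hu : u ∈ Yg i) : eE i * u * (eE i)⁻¹ ∈ Yg i := by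
  obtain ⟨hu1, hu0⟩ := hu
  have hg := isMon_eE (F := F) i
  have key : ∀ r c, c < r → (u : Matrix (Fin (m + 2)) (Fin (m + 2)) F) ((sw i)⁻¹ r) ((sw i)⁻¹ c) = 0 := by
    intro r c hc
    rw [sw_inv]
    by_cases h : c = i.castSucc ∧ r = i.succ
    · obtain ⟨rfl, rfl⟩ := h
      simp only [sw, Equiv.swap_apply_left, Equiv.swap_apply_right]
      exact hu0
    · exact hu1.1 _ _ (sw_lt i hc h)
  refine ⟨conj_mem_USL hg hu1 key, ?_⟩
  rw [Matrix.SpecialLinearGroup.coe_mul, Matrix.SpecialLinearGroup.coe_mul, hg.conj_apply, sw_inv]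
  simp only [sw, Equiv.swap_apply_left, Equiv.swap_apply_right]
  rw [hu1.1 _ _ Fin.castSucc_lt_succ]
  simp

theorem sw_injective : Function.Injective (sw : Fin (m + 1) → Equiv.Perm (Fin (m + 2))) := by
  intro i j h1
  have h2 := congrArg (fun σ : Equiv.Perm (Fin (m + 2)) => σ i.castSucc) h1
  simp only [sw, Equiv.swap_apply_left, Equiv.swap_apply_def] at h2
  split_ifs at h2 with h3 h4
  · apply Fin.ext
    simpa [Fin.ext_iff] using h3
  · exfalso
    simp only [Fin.ext_iff, Fin.val_castSucc, Fin.val_succ] at h2 h4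
    omega
  · exfalso
    exact hi i h2.symm

theorem H_norm_U' {h u : SLG} (hh : IsMon h 1) (hu : IsUT u) : IsUT (h * u * h⁻¹) :=
  conj_mem_USL hh hu (fun r c hc => hu.1 _ _ (by simpa using hc))

theorem exists_perm (σ : Equiv.Perm (Fin (m + 2))) :
    ∃ g ∈ Subgroup.closure (Set.range (eE : Fin (m + 1) → SLG)), IsMon g σ := by
  have h1 : σ ∈ Submonoid.closure (Set.range fun i : Fin (m + 1) => Equiv.swap i.castSucc i.succ) := by
    rw [Equiv.Perm.mclosure_swap_castSucc_succ]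
    trivial
  induction h1 using Submonoid.closure_induction with
  | mem x hx =>
    obtain ⟨i, rfl⟩ := hx
    exact ⟨eE i, Subgroup.subset_closure ⟨i, rfl⟩, isMon_eE i⟩
  | one => exact ⟨1, Subgroup.one_mem _, isMon_one⟩
  | mul a b _ _ ha hb =>
    obtain ⟨g, hg, hg'⟩ := ha
    obtain ⟨g₂, hg₂, hg₂'⟩ := hb
    exact ⟨g * g₂, Subgroup.mul_mem _ hg hg₂, hg'.mul hg₂'⟩

theorem S_gen' : Subgroup.closure (Set.range (eE : Fin (m + 1) → SLG)) ⊔ Hsub (m + 2) F = Nsub (m + 2) F := by
  apply le_antisymm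
  · refine sup_le ?_ Hsub_le_Nsub
    rw [Subgroup.closure_le]
    rintro _ ⟨i, rfl⟩
    exact ⟨_, isMon_eE i⟩
  · rintro g ⟨π, hπ⟩
    obtain ⟨a, ha, ha'⟩ := exists_perm (F := F) π
    have e : g = a * (a⁻¹ * g) := by group
    rw [e]
    refine Subgroup.mul_mem_sup ha ?_
    have h1 := ha'.inv.mul hπ
    rwa [inv_mul_cancel] at h1

theorem perm_eq_one {n : ℕ} {π : Equiv.Perm (Fin n)} (h : ∀ c, π c ≤ c) : π = 1 := by
  have key : ∀ k : ℕ, ∀ c : Fin n, c.val = k → π c = c := by
    intro k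
    induction k using Nat.strong_induction_on with
    | _ k ih =>
      intro c hc
      by_contra hne
      have h1 : π c < c := lt_of_le_of_ne (h c) hne
      have h2 := ih (π c).val (by rw [← hc]; exact h1) (π c) rfl
      exact hne (π.injective h2)
  ext c
  simp [key _ c rfl]

/-- The Borel subgroup consists of upper triangular matrices. -/
theorem up_of_mem {b : SLG} (hb : b ∈ USL (m + 2) F ⊔ Hsub (m + 2) F) {r c : Fin (m + 2)} (hc : c < r) :
    (b : Matrix (Fin (m + 2)) (Fin (m + 2)) F) r c = 0 := by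
  obtain ⟨u, hu, h, hh, rfl⟩ := (mem_sup_iff_of_norm (fun h hh u hu => H_norm_U' hh hu)).1 hb
  rw [Matrix.SpecialLinearGroup.coe_mul, IsMon.mul_apply hh]
  simp only [Equiv.Perm.one_apply]
  rw [hu.1 _ _ hc, zero_mul]

/-- The root data of `SL_n`. -/
noncomputable def core : RootCore SLG where
  U := USL (m + 2) F
  H := Hsub (m + 2) F
  N := Nsub (m + 2) F
  S := Set.range eE
  X := Function.extend eE Xg (fun _ => ⊥)
  Y := Function.extend eE Yg (fun _ => ⊥)
  H_le_N := Hsub_le_Nsub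
  H_norm_N := by
    rintro n ⟨π, hπ⟩ h hh
    have h1 := (hπ.mul hh).mul hπ.inv
    rwa [mul_one, mul_inv_cancel] at h1
  H_norm_U := fun h hh u hu => H_norm_U' hh hu
  BN_inf := by
    apply le_antisymm
    · rintro b ⟨hb, ⟨π, hπ⟩⟩
      have h1 : π = 1 := perm_eq_one fun c => by
        by_contra h2
        exact hπ.ne_zero c (up_of_mem hb (not_le.1 h2))
      rw [h1] at hπ
      exact hπ
    · exact le_inf le_sup_right Hsub_le_Nsub
  S_sub := by
    rintro _ ⟨i, rfl⟩
    exact ⟨_, isMon_eE i⟩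
  S_sq := by
    rintro _ ⟨i, rfl⟩
    have h1 := (isMon_eE (F := F) i).mul (isMon_eE i)
    rwa [show sw i * sw i = 1 from Equiv.swap_mul_self _ _] at h1
  S_inj := by
    rintro _ ⟨i, rfl⟩ _ ⟨j, rfl⟩ h
    have h1 := (isMon_eE (F := F) i).inv.mul (isMon_eE j)
    have h2 := h1.unique h
    rw [inv_mul_eq_one] at h2
    rw [sw_injective h2]
  S_gen := S_gen'
  X_le := by
    rintro _ ⟨i, rfl⟩ _ hx
    rw [eE_injective.extend_apply] at hx
    obtain ⟨a, rfl⟩ := hx
    exact isUT_tv Fin.castSucc_lt_succ a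
  Y_le := by
    rintro _ ⟨i, rfl⟩ _ hx
    rw [eE_injective.extend_apply] at hx
    exact hx.1
  decomp := by
    rintro _ ⟨i, rfl⟩ u hu
    rw [eE_injective.extend_apply, eE_injective.extend_apply]
    set c := (u : Matrix (Fin (m + 2)) (Fin (m + 2)) F) i.castSucc i.succ with hc
    refine ⟨u * xx i (-c), ⟨hu.mul (isUT_tv Fin.castSucc_lt_succ _), ?_⟩, xx i c, ⟨c, rfl⟩, ?_⟩
    · rw [Matrix.SpecialLinearGroup.coe_mul]
      show ((u : Matrix (Fin (m + 2)) (Fin (m + 2)) F) * Matrix.transvection i.castSucc i.succ (-c)) i.castSucc i.succ = 0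
      rw [Matrix.mul_transvection_apply_same, hu.2, ← hc]
      ring
    · rw [mul_assoc, xx, xx, ← Matrix.SpecialLinearGroup.transvection_add]
      simp
  Y_norm := by
    rintro _ ⟨i, rfl⟩ a ha
    rw [eE_injective.extend_apply] at ha ⊢
    exact conj_Yg ha
  H_norm_X := by
    rintro _ ⟨i, rfl⟩ h hh x hx
    rw [eE_injective.extend_apply] at hx ⊢
    obtain ⟨a, rfl⟩ := hx
    obtain ⟨b, -, hb⟩ := IsMon.conj_tv hh (hi i)
    exact ⟨a * b, hb a⟩
  sl2 := by
    rintro _ ⟨i, rfl⟩ x hx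
    rw [eE_injective.extend_apply] at hx ⊢
    obtain ⟨t, rfl⟩ := hx
    by_cases ht : t = 0
    · left
      subst ht
      rw [xx, Matrix.SpecialLinearGroup.transvection_coeff_zero]
      group
    · right
      refine ⟨xx i (-t⁻¹), ⟨_, rfl⟩, hE i t, isMon_hE i ht, xx i (-t⁻¹), ⟨_, rfl⟩, ?_⟩
      rw [xx, eE, tv_conj_ee]
      apply Subtype.ext
      rw [Matrix.SpecialLinearGroup.coe_mul, Matrix.SpecialLinearGroup.coe_mul, Matrix.SpecialLinearGroup.coe_mul,
        xx, hE, tv_coe_Phi (hi i), ee_coe, hh_coe (hi i) ht, tv_symm_coe_Phi (hi i), Phi_mul (hi i), Phi_mul (hi i),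
        Phi_mul (hi i)]
      congr 1 <;> field_simp <;> ring
  dichotomy := by
    rintro _ ⟨i, rfl⟩ n ⟨π, hπ⟩
    rw [eE_injective.extend_apply]
    have hne : π⁻¹ i.castSucc ≠ π⁻¹ i.succ := π⁻¹.injective.ne (hi i)
    rcases lt_or_gt_of_ne hne with h | h
    · left
      rintro _ ⟨a, rfl⟩
      obtain ⟨b, -, hb⟩ := IsMon.conj_tv hπ.inv (hi i)
      have h1 := hb a
      rw [inv_inv] at h1
      rw [xx, h1]
      exact isUT_tv h _
    · right
      rintro _ ⟨a, rfl⟩
      rw [xx, eE, tv_conj_ee]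
      obtain ⟨b, -, hb⟩ := IsMon.conj_tv hπ.inv (hi i).symm
      have h1 := hb (-a)
      rw [inv_inv] at h1
      rw [h1]
      exact isUT_tv h _
  conj_ne := by
    rintro _ ⟨i, rfl⟩
    rw [eE_injective.extend_apply]
    refine ⟨xx i 1, ⟨1, rfl⟩, fun hmem => ?_⟩
    rw [xx, eE, tv_conj_ee] at hmem
    have h1 := up_of_mem hmem (Fin.castSucc_lt_succ (i := i))
    rw [tv_apply] at h1
    simp [(hi i).symm] at h1

end Cfsg.Agent.Lib.StBlocks.SLPair
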