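import Mathlib
import Cfsg.Agent.Lib.Blocks.Central
import Cfsg.Agent.Lib.Blocks.ModRank

/-!
Reduction of an irreducible complex representation modulo the local ideal: a finite dimensional nonzero
representation over the residue field on which the class sums act by the reduced central character.
-/

set_option autoImplicit false
set_option linter.unusedSectionVars false

namespace Cfsg.Agent.Lib.StBlocks.Reduce

open Cfsg Cfsg.Agent.Lib.Blocks.Local Cfsg.Agent.Lib.Blocks.Central

section Abstract

variable {G : Type*} [Group G] {O : Type*} [CommRing O] (I : Ideal O)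
variable {V : Type*} [AddCommGroup V] [Module O V] (ρ₀ : G → (V →ₗ[O] V))
  (L : Submodule O V) (hL : ∀ g, ∀ x ∈ L, ρ₀ g x ∈ L)

/-- The restriction to the lattice. -/
def rL (g : G) : L →ₗ[O] L := (ρ₀ g).restrict (hL g)

theorem rL_coe (g : G) (x : L) : ((rL ρ₀ L hL g x : L) : V) = ρ₀ g x := rfl

theorem hQ (g : G) : I • (⊤ : Submodule O L) ≤ (I • (⊤ : Submodule O L)).comap (rL ρ₀ L hL g) := by
  rw [Submodule.smul_le]
  intro a ha x _
  rw [Submodule.mem_comap, map_smul]
  exact Submodule.smul_mem_smul ha trivial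

/-- The operators on the reduction. -/
noncomputable def rK (g : G) : (L ⧸ I • (⊤ : Submodule O L)) →ₗ[O ⧸ I] (L ⧸ I • (⊤ : Submodule O L)) :=
  LinearMap.extendScalarsOfSurjective (R := O) (S := O ⧸ I) Ideal.Quotient.mk_surjective
    (Submodule.mapQ _ _ (rL ρ₀ L hL g) (hQ I ρ₀ L hL g))

theorem rK_mk (g : G) (x : L) : rK I ρ₀ L hL g (Submodule.Quotient.mk x) =
    Submodule.Quotient.mk (rL ρ₀ L hL g x) := rfl

end Abstract

section Abstract2

variable {G : Type*} [Group G] {O : Type*} [CommRing O] (I : Ideal O)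
variable {V : Type*} [AddCommGroup V] [Module O V] (ρ₀ : G →* (V →ₗ[O] V))
  (L : Submodule O V) (hL : ∀ g, ∀ x ∈ L, ρ₀ g x ∈ L)

/-- The reduction of a lattice. -/
noncomputable def redRep : Representation (O ⧸ I) G (L ⧸ I • (⊤ : Submodule O L)) where
  toFun := rK I ρ₀ L hL
  map_one' := by
    refine LinearMap.ext fun w => ?_
    obtain ⟨x, rfl⟩ := Submodule.Quotient.mk_surjective _ w
    rw [rK_mk]
    congr 1
    apply Subtype.ext
    rw [rL_coe]
    simp
  map_mul' := by
    intro a b
    refine LinearMap.ext fun w => ?_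
    obtain ⟨x, rfl⟩ := Submodule.Quotient.mk_surjective _ w
    rw [Module.End.mul_apply, rK_mk, rK_mk, rK_mk]
    congr 1
    apply Subtype.ext
    rw [rL_coe, rL_coe, rL_coe]
    simp

theorem redRep_mk (g : G) (x : L) : redRep I ρ₀ L hL g (Submodule.Quotient.mk x) =
    Submodule.Quotient.mk (rL ρ₀ L hL g x) := rfl

theorem redRep_sum (s : Finset G) (c : O) (h : ∀ x ∈ L, ∑ y ∈ s, ρ₀ y x = c • x)
    (w : L ⧸ I • (⊤ : Submodule O L)) :
    ∑ y ∈ s, redRep I ρ₀ L hL y w = Ideal.Quotient.mk I c • w := by
  obtain ⟨x, rfl⟩ := Submodule.Quotient.mk_surjective _ w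
  simp only [redRep_mk]
  have e0 : ∑ y ∈ s, (Submodule.Quotient.mk (rL ρ₀ L hL y x) : L ⧸ I • (⊤ : Submodule O L)) =
      Submodule.Quotient.mk (∑ y ∈ s, rL ρ₀ L hL y x) := (map_sum (Submodule.mkQ _) _ _).symm
  rw [e0]
  have e : ∑ y ∈ s, rL ρ₀ L hL y x = c • x := by
    apply Subtype.ext
    rw [AddSubmonoidClass.coe_finset_sum]
    simp only [rL_coe]
    exact h x x.2
  rw [e]
  rfl

end Abstract2

variable {G : Type*} [Group G] [Fintype G] (M : Ideal AlgInt) [hM : M.IsPrime]

open Classical in
theorem exists_reduction {χ : G → ℂ} (hχ : IsIrrCharacter G χ) :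
    ∃ (W : Type) (_ : AddCommGroup W) (_ : Module (localRing M ⧸ localIdeal M) W)
      (ρ : Representation (localRing M ⧸ localIdeal M) G W),
      FiniteDimensional (localRing M ⧸ localIdeal M) W ∧ Nontrivial W ∧
      ∀ (g : G) (c : localRing M), (c : ℂ) = centralChar χ g → ∀ w,
        ∑ x ∈ Finset.univ.filter (fun x => IsConj g x), ρ x w = residue M c • w := by
  have h10 := Cfsg.Agent.Lib.Char.Ortho.irr_apply_one_ne_zero hχ
  obtain ⟨n, ρ₀, hρ₀, rfl⟩ := hχ
  have : ρ₀.IsIrreducible := hρ₀
  have hn : 0 < n := by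
    by_contra h
    have h0 : n = 0 := by omega
    subst h0
    apply h10
    rw [ρ₀.char_one]
    simp
  have hv₀ : (fun _ => 1 : Fin n → ℂ) ≠ 0 := by
    intro h
    have := congrFun h ⟨0, hn⟩
    simp at this
  -- `ρ₀` as an `O`-linear representation
  let ρO : G →* ((Fin n → ℂ) →ₗ[localRing M] (Fin n → ℂ)) :=
    { toFun := fun g => (ρ₀ g).restrictScalars (localRing M)
      map_one' := by
        refine LinearMap.ext fun x => ?_
        simp
      map_mul' := by
        intro a b
        refine LinearMap.ext fun x => ?_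
        simp }
  have hρO : ∀ g x, ρO g x = ρ₀ g x := fun _ _ => rfl
  let L : Submodule (localRing M) (Fin n → ℂ) :=
    Submodule.span (localRing M) (Set.range fun g : G => ρ₀ g (fun _ => 1))
  have hL : ∀ g, ∀ x ∈ L, ρO g x ∈ L := by
    intro g x hx
    induction hx using Submodule.span_induction with
    | mem x hx =>
        obtain ⟨h, rfl⟩ := hx
        refine Submodule.subset_span ⟨g * h, ?_⟩
        rw [hρO]
        simp
    | zero => simp
    | add x y _ _ hx hy => rw [map_add]; exact L.add_mem hx hy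
    | smul c x _ hx =>
        rw [map_smul]
        exact L.smul_mem c hx
  have hLfin : Module.Finite (localRing M) L := Module.Finite.span_of_finite _ (Set.finite_range _)
  refine ⟨L ⧸ localIdeal M • (⊤ : Submodule (localRing M) L), inferInstance, inferInstance,
    redRep _ ρO L hL, ?_, ?_, ?_⟩
  · exact Module.Finite.of_restrictScalars_finite (localRing M) _ _
  · rw [Submodule.Quotient.nontrivial_iff]
    intro htop
    have h1 : (⊤ : Submodule (localRing M) L) ≤ localIdeal M • (⊤ : Submodule (localRing M) L) := htop.ge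
    have h2 : localIdeal M ≤ Ideal.jacobson ⊥ := by
      rw [localIdeal_eq_maximalIdeal]
      exact IsLocalRing.maximalIdeal_le_jacobson _
    have h3 := Submodule.eq_bot_of_le_smul_of_le_jacobson_bot (localIdeal M)
      (⊤ : Submodule (localRing M) L) Module.Finite.fg_top h1 h2
    have hv : (fun _ => 1 : Fin n → ℂ) ∈ L := Submodule.subset_span ⟨1, by simp⟩
    have h4 : (⟨_, hv⟩ : L) ∈ (⊥ : Submodule (localRing M) L) := h3 ▸ trivial
    rw [Submodule.mem_bot] at h4
    exact hv₀ (congrArg Subtype.val h4)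
  · intro g c hc w
    refine redRep_sum _ ρO L hL _ c (fun x _ => ?_) w
    simp only [hρO]
    have h3 := congrArg (fun f => f x) (asAlgebraHom_eq_omega_smul ρ₀ (isClassFunction_classSum g))
    simp only [LinearMap.smul_apply, LinearMap.id_apply] at h3
    rw [omega_classSum (isClassFunction_of_irr ⟨n, ρ₀, hρ₀, rfl⟩), ← hc] at h3
    have h4 : ρ₀.asAlgebraHom (classSum g) x =
        ∑ y ∈ Finset.univ.filter (fun y => IsConj g y), ρ₀ y x := by
      rw [classSum, ofFun, map_sum, LinearMap.sum_apply, Finset.sum_filter]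
      refine Finset.sum_congr rfl fun y _ => ?_
      rw [Representation.asAlgebraHom_single]
      split_ifs <;> simp
    rw [← h4, h3]
    rfl

end Cfsg.Agent.Lib.StBlocks.Reduce
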