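import Cfsg.Agent.Lib.StBlocks.Form
import Cfsg.Agent.Lib.StBlocks.Reduce
import Cfsg.Agent.Lib.Blocks.Osima
import Cfsg.Agent.Lib.Char.Burnside2

/-!
The `p`-blocks of a group with a split `(B,N)`-pair, from the two forms of central characters.
-/

set_option autoImplicit false
set_option linter.unusedSectionVars false

namespace Cfsg.Agent.Lib.StBlocks.Count

open Cfsg Cfsg.Agent.Lib.ModHecke.Core Cfsg.Agent.Lib.StBlocks.Form Cfsg.Agent.Lib.StBlocks.Reduce
open Cfsg.Agent.Lib.Blocks.Local Cfsg.Agent.Lib.Blocks.Central Cfsg.Agent.Lib.Blocks.Osima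
open Cfsg.Agent.Lib.BNPair.Basic
open scoped Classical

universe u

variable {G : Type u} [Group G] [Fintype G]

section Central

theorem index_centralizer {z : G} (hz : z ∈ Subgroup.center G) :
    (Subgroup.centralizer ({z} : Set G)).index = 1 := by
  rw [Subgroup.index_eq_one, eq_top_iff]
  intro g _
  rw [Subgroup.mem_centralizer_iff]
  intro h hh
  rw [Set.mem_singleton_iff] at hh
  subst hh
  exact (Subgroup.mem_center_iff.1 hz g).symm

theorem centralChar_central {χ : G → ℂ} {z : G} (hz : z ∈ Subgroup.center G) :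
    centralChar χ z = χ z / χ 1 := by
  rw [centralChar, index_centralizer hz]
  simp

theorem central_mul {χ : G → ℂ} (hχ : IsIrrCharacter G χ) {z : G} (hz : z ∈ Subgroup.center G) (g : G) :
    χ (z * g) = χ z / χ 1 * χ g := by
  have h0 := Cfsg.Agent.Lib.Char.Ortho.irr_apply_one_ne_zero hχ
  obtain ⟨n, ρ, hρ, rfl⟩ := hχ
  have : ρ.IsIrreducible := hρ
  obtain ⟨c, hc⟩ := Cfsg.Agent.Lib.Char.Integrality.exists_smul_id_of_commute ρ (ρ z) (fun h => by
    rw [← Module.End.mul_eq_comp, ← Module.End.mul_eq_comp, ← map_mul, ← map_mul,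
      (Subgroup.mem_center_iff.1 hz) h])
  have e1 : ρ.character z = c * ρ.character 1 := by
    rw [Representation.character, hc]
    simp [Representation.character]
  have e2 : ρ.character (z * g) = c * ρ.character g := by
    have e3 : ρ (z * g) = c • ρ g := by
      rw [map_mul, hc]
      ext
      simp
    rw [Representation.character, e3, map_smul]
    rfl
  rw [e2, e1, mul_div_assoc, div_self h0, mul_one]

/-- The central character on a central subgroup. -/
noncomputable def cen (Z : Subgroup G) (hZ : Z ≤ Subgroup.center G) (χ : IrrCharacter G) : ↥Z →* ℂˣ :=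
  MonoidHom.toHomUnits
    { toFun := fun z => (χ : G → ℂ) z / (χ : G → ℂ) 1
      map_one' := div_self (Cfsg.Agent.Lib.Char.Ortho.irr_apply_one_ne_zero χ.2)
      map_mul' := fun a b => by
        have h0 := Cfsg.Agent.Lib.Char.Ortho.irr_apply_one_ne_zero χ.2
        show (χ : G → ℂ) ((a : G) * (b : G)) / (χ : G → ℂ) 1 = _
        rw [central_mul χ.2 (hZ a.2)]
        ring }

theorem coe_cen (Z : Subgroup G) (hZ : Z ≤ Subgroup.center G) (χ : IrrCharacter G) (z : ↥Z) :
    ((cen Z hZ χ z : ℂˣ) : ℂ) = (χ : G → ℂ) z / (χ : G → ℂ) 1 := by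
  rw [cen, MonoidHom.coe_toHomUnits]
  rfl

theorem degree_eq (χ : IrrCharacter G) : (χ : G → ℂ) 1 = (charDegree (χ : G → ℂ) : ℂ) := by
  obtain ⟨n, -, hn⟩ := Cfsg.Agent.Lib.Char.Ortho.irr_degree_pos χ.2
  rw [charDegree, hn]
  simp

/-- The constituent of prime to `p` degree with a given central character. -/
theorem exists_not_dvd {p : ℕ} (hp : p.Prime) (U Z : Subgroup G) (hZ : Z ≤ Subgroup.center G)
    (hZU : ∀ z ∈ Z, z ∈ U → z = 1) (hidx : ¬ p ∣ U.index) (l : ↥Z →* ℂˣ) :
    ∃ χ : IrrCharacter G, ¬ p ∣ charDegree (χ : G → ℂ) ∧ cen Z hZ χ = l := by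
  by_contra hno
  push Not at hno
  have : Fintype (IrrCharacter G) := Fintype.ofFinite _
  have hres : ∀ χ : IrrCharacter G, ∃ n : ℕ, classInner (fun u : ↥U => (χ : G → ℂ) u) (1 : ↥U → ℂ) = n :=
    fun χ => Cfsg.Agent.Lib.Char.Ortho.exists_nat_classInner_of_isCharacter
      (Cfsg.Agent.Lib.Char.Basic.isCharacter_restrict (Cfsg.Agent.Lib.Char.Basic.isCharacter_of_isIrrCharacter χ.2) U)
      Cfsg.Agent.Lib.Char.Basic.isCharacter_one
  choose n hn using hres
  have hcardU : (Nat.card ↥U : ℂ) ≠ 0 := by exact_mod_cast Nat.card_pos.ne'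
  have hsumU : ∀ χ : IrrCharacter G, ∑ u : ↥U, (χ : G → ℂ) u = (Nat.card ↥U : ℂ) * (n χ : ℂ) := by
    intro χ
    rw [← hn χ, classInner]
    simp only [Pi.one_apply, map_one, mul_one]
    field_simp
  -- the sum over the central subgroup
  have hT : ∀ χ : IrrCharacter G, ∑ z : ↥Z, (((l z)⁻¹ : ℂˣ) : ℂ) * ((cen Z hZ χ z : ℂˣ) : ℂ) =
      if cen Z hZ χ = l then (Nat.card ↥Z : ℂ) else 0 := by
    intro χ
    split_ifs with h
    · rw [h]
      simp only [Units.inv_mul, Finset.sum_const, nsmul_eq_mul, mul_one, Finset.card_univ,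
        Nat.card_eq_fintype_card]
    · let ν : ↥Z →* ℂ := (Units.coeHom ℂ).comp (cen Z hZ χ * l⁻¹)
      have hν : ν ≠ 1 := by
        intro h1
        apply h
        ext z
        have h2 := DFunLike.congr_fun h1 z
        have h3 : ((cen Z hZ χ z * (l z)⁻¹ : ℂˣ) : ℂ) = 1 := h2
        have h4 : cen Z hZ χ z * (l z)⁻¹ = 1 := Units.ext h3
        rw [mul_inv_eq_one] at h4
        rw [h4]
      have h5 := sum_hom_units_eq_zero ν hν
      rw [← h5]
      refine Finset.sum_congr rfl fun z _ => ?_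
      show _ = ((cen Z hZ χ z * (l z)⁻¹ : ℂˣ) : ℂ)
      rw [Units.val_mul, mul_comm]
  have hcol : ∀ g : G, ∑ χ : IrrCharacter G, (χ : G → ℂ) 1 * (χ : G → ℂ) g =
      if g = 1 then (Nat.card G : ℂ) else 0 := Cfsg.Agent.Lib.Char.Burnside2.sum_degree_mul_character
  -- the double sum
  have hmain : ∑ χ : IrrCharacter G, (χ : G → ℂ) 1 * (∑ u : ↥U, (χ : G → ℂ) u) *
      ∑ z : ↥Z, (((l z)⁻¹ : ℂˣ) : ℂ) * ((cen Z hZ χ z : ℂˣ) : ℂ) = (Nat.card G : ℂ) := by
    have h1 : ∀ χ : IrrCharacter G, (χ : G → ℂ) 1 * (∑ u : ↥U, (χ : G → ℂ) u) *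
        ∑ z : ↥Z, (((l z)⁻¹ : ℂˣ) : ℂ) * ((cen Z hZ χ z : ℂˣ) : ℂ) =
        ∑ z : ↥Z, ∑ u : ↥U, (((l z)⁻¹ : ℂˣ) : ℂ) * ((χ : G → ℂ) 1 * (χ : G → ℂ) ((z : G) * (u : G))) := by
      intro χ
      rw [Finset.mul_sum]
      refine Finset.sum_congr rfl fun z _ => ?_
      rw [Finset.mul_sum, Finset.sum_mul]
      refine Finset.sum_congr rfl fun u _ => ?_
      rw [central_mul χ.2 (hZ z.2), coe_cen]
      ring
    simp only [h1]
    rw [Finset.sum_comm]
    have h2 : ∀ z : ↥Z, ∑ χ : IrrCharacter G, ∑ u : ↥U,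
        (((l z)⁻¹ : ℂˣ) : ℂ) * ((χ : G → ℂ) 1 * (χ : G → ℂ) ((z : G) * (u : G))) =
        ∑ u : ↥U, (((l z)⁻¹ : ℂˣ) : ℂ) * if (z : G) * (u : G) = 1 then (Nat.card G : ℂ) else 0 := by
      intro z
      rw [Finset.sum_comm]
      refine Finset.sum_congr rfl fun u _ => ?_
      rw [← Finset.mul_sum, hcol]
    simp only [h2]
    rw [Finset.sum_eq_single (1 : ↥Z), Finset.sum_eq_single (1 : ↥U)]
    · simp
    · intro u _ hu
      rw [if_neg, mul_zero]
      intro h3
      apply hu
      apply Subtype.ext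
      simpa using h3
    · simp
    · intro z _ hz
      apply Finset.sum_eq_zero
      intro u _
      rw [if_neg, mul_zero]
      intro h3
      apply hz
      apply Subtype.ext
      have h4 : (z : G) = (u : G)⁻¹ := eq_inv_of_mul_eq_one_left h3
      apply hZU _ z.2
      rw [h4]
      exact U.inv_mem u.2
    · simp
  -- a sum of natural numbers
  have hnat : ∑ χ : IrrCharacter G, (if cen Z hZ χ = l then
      charDegree (χ : G → ℂ) * n χ * Nat.card ↥Z else 0) = U.index := by
    have h1 : ((∑ χ : IrrCharacter G, (if cen Z hZ χ = l then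
      charDegree (χ : G → ℂ) * n χ * Nat.card ↥Z else 0) : ℕ) : ℂ) * (Nat.card ↥U : ℂ) =
        (Nat.card G : ℂ) := by
      rw [← hmain, Nat.cast_sum, Finset.sum_mul]
      refine Finset.sum_congr rfl fun χ _ => ?_
      rw [hT, hsumU, degree_eq]
      split_ifs with h
      · push_cast
        ring
      · simp
    have h2 : (Nat.card G : ℂ) = (U.index : ℂ) * (Nat.card ↥U : ℂ) := by
      rw [mul_comm, ← Nat.cast_mul, Subgroup.card_mul_index]
    rw [h2] at h1
    have h3 := mul_right_cancel₀ hcardU h1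
    exact_mod_cast h3
  apply hidx
  rw [← hnat]
  refine Finset.dvd_sum fun χ _ => ?_
  split_ifs with h
  · by_contra hnd
    exact hno χ (fun h2 => hnd (Dvd.dvd.mul_right (Dvd.dvd.mul_right h2 _) _)) h
  · exact dvd_zero _

end Central

section Residue

variable (M : Ideal AlgInt) [hMp : M.IsPrime] {p : ℕ}

/-- The reduced central character. -/
noncomputable def omb (χ : IrrCharacter G) (g : G) : localRing M ⧸ localIdeal M :=
  residue M ⟨centralChar (χ : G → ℂ) g, memLocalRing_centralChar χ.2 g⟩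

variable {M}

theorem sameBlock_iff {χ ψ : IrrCharacter G} :
    SameBlock M (χ : G → ℂ) ψ ↔ omb M χ = omb M ψ := by
  constructor
  · intro h
    funext g
    exact residue_eq_iff.2 (h g)
  · intro h g
    exact residue_eq_iff.1 (congrFun h g)

theorem blockOf_eq {χ ψ : IrrCharacter G} (h : omb M χ = omb M ψ) :
    blockOf M (χ : G → ℂ) = blockOf M (ψ : G → ℂ) := by
  ext θ
  show SameBlock M (χ : G → ℂ) θ ↔ SameBlock M (ψ : G → ℂ) θ
  rw [sameBlock_iff, sameBlock_iff, h]

theorem mem_blockOf_iff {χ ψ : IrrCharacter G} :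
    ψ ∈ blockOf M (χ : G → ℂ) ↔ omb M χ = omb M ψ := sameBlock_iff

theorem charP_residue (hM : IsPModular p M) : CharP (localRing M ⧸ localIdeal M) p := by
  rw [CharP.charP_iff_prime_eq_zero hM.1]
  have h1 : residue M ((p : ℕ) : localRing M) = 0 := by
    rw [residue_eq_zero_iff]
    have := memLocalIdeal_natCast_self hM
    simpa using this
  simpa using h1

theorem cast_eq_zero_of_dvd (hM : IsPModular p M) {m : ℕ} (h : p ∣ m) :
    ((m : ℕ) : localRing M ⧸ localIdeal M) = 0 := by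
  have := charP_residue hM
  exact (CharP.cast_eq_zero_iff _ p m).2 h

variable {P : Cfsg.BNPair G} {F : Type*} [Field F] [Fintype F] {ι : Type*} [Fintype ι] [DecidableEq ι]
  (S : Spl P p F ι) (D : Dat S)

include D in
theorem omb_cases (hM : IsPModular p M) (χ : IrrCharacter G) :
    FormA S (omb M χ) ∨ FormB S (omb M χ) := by
  obtain ⟨W, _, _, ρ, hfin, hnt, hsum⟩ := exists_reduction (G := G) M χ.2
  have : IsAlgClosed (localRing M ⧸ localIdeal M) := Cfsg.Agent.Lib.Blocks.ModRank.isAlgClosed_residue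
  have := charP_residue hM
  exact form_cases S D (cast_eq_zero_of_dvd hM S.card_F) (ρ := ρ)
    (fun g w => hsum g ⟨_, memLocalRing_centralChar χ.2 g⟩ rfl w)

/-- The principal character. -/
noncomputable def oneIrr (G : Type u) [Group G] [Fintype G] : IrrCharacter G :=
  ⟨fun _ => 1, Cfsg.Agent.Lib.Char.Burnside2.isIrrCharacter_one⟩

theorem omb_one_central {z : G} (hz : z ∈ Subgroup.center G) : omb M (oneIrr G) z = 1 := by
  have h1 : (⟨centralChar ((oneIrr G : IrrCharacter G) : G → ℂ) z,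
      memLocalRing_centralChar (oneIrr G).2 z⟩ : localRing M) = 1 := by
    apply Subtype.ext
    show centralChar _ z = 1
    rw [centralChar_central hz]
    simp [oneIrr]
  rw [omb, h1, map_one]

include D in
theorem omb_one [Nonempty ι] (hM : IsPModular p M) : FormA S (omb M (oneIrr G)) := by
  have : IsAlgClosed (localRing M ⧸ localIdeal M) := Cfsg.Agent.Lib.Blocks.ModRank.isAlgClosed_residue
  have := charP_residue hM
  have h := formA_trivial (k := localRing M ⧸ localIdeal M) S D (cast_eq_zero_of_dvd hM S.card_F)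
  have e : omb M (oneIrr G) = fun g => (((Finset.univ.filter (fun x => IsConj g x)).card : ℕ) :
      localRing M ⧸ localIdeal M) := by
    funext g
    have h1 : (⟨centralChar ((oneIrr G : IrrCharacter G) : G → ℂ) g,
        memLocalRing_centralChar (oneIrr G).2 g⟩ : localRing M) =
        (((Finset.univ.filter (fun x => IsConj g x)).card : ℕ) : localRing M) := by
      apply Subtype.ext
      show centralChar _ g = (((Finset.univ.filter (fun x => IsConj g x)).card : ℕ) : ℂ)
      rw [centralChar]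
      have h2 := Cfsg.Agent.Lib.Char.Integrality.card_classFinset g
      have h3 : (Finset.univ.filter (fun x => IsConj g x)).card =
          (Cfsg.Agent.Lib.Char.Integrality.classFinset g).card := by
        rw [Cfsg.Agent.Lib.Char.Integrality.classFinset]
      rw [h3, h2]
      simp [oneIrr]
    rw [omb, h1, map_natCast]
  rw [e]
  exact h

/-- Roots of unity of order prime to `p` are separated modulo the local ideal. -/
theorem eq_one_of_memLocalIdeal (hM : IsPModular p M) {ζ : ℂ} {m : ℕ} (hm : ¬ p ∣ m) (hζ : ζ ^ m = 1)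
    (hz : MemLocalIdeal M (ζ - 1)) : ζ = 1 := by
  by_contra hne
  have hm0 : m ≠ 0 := by
    rintro rfl
    exact hm (dvd_zero _)
  have hζI : IsIntegral ℤ ζ := ⟨Polynomial.X ^ m - 1, Polynomial.monic_X_pow_sub_C 1 hm0, by simp [hζ]⟩
  have hζL : MemLocalRing M ζ := memLocalRing_of_isIntegral hζI
  have h1 : (∑ i ∈ Finset.range m, ζ ^ i) * (ζ - 1) = ζ ^ m - 1 := geom_sum_mul ζ m
  rw [hζ, sub_self] at h1
  have h2 : ∑ i ∈ Finset.range m, ζ ^ i = 0 :=
    (mul_eq_zero.1 h1).resolve_right (sub_ne_zero.2 hne)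
  have hpow : ∀ i : ℕ, MemLocalIdeal M (ζ ^ i - 1) := by
    intro i
    have e : ζ ^ i - 1 = (∑ j ∈ Finset.range i, ζ ^ j) * (ζ - 1) := (geom_sum_mul ζ i).symm
    rw [e]
    exact memLocalIdeal_mul_left (memLocalRing_sum _ _ fun j _ => memLocalRing_pow hζL j) hz
  have h3 : MemLocalIdeal M (∑ i ∈ Finset.range m, (ζ ^ i - 1)) :=
    memLocalIdeal_sum _ _ fun i _ => hpow i
  rw [Finset.sum_sub_distrib, h2] at h3
  simp only [Finset.sum_const, Finset.card_range, nsmul_eq_mul, mul_one, zero_sub] at h3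
  have h4 := memLocalIdeal_neg h3
  rw [neg_neg] at h4
  exact hm ((memLocalIdeal_natCast_iff hM).1 h4)

theorem omb_central (χ : IrrCharacter G) {Z : Subgroup G} (hZ : Z ≤ Subgroup.center G) (z : ↥Z)
    (hc : MemLocalRing M ((cen Z hZ χ z : ℂˣ) : ℂ)) :
    omb M χ z = residue M ⟨((cen Z hZ χ z : ℂˣ) : ℂ), hc⟩ := by
  rw [omb]
  congr 1
  apply Subtype.ext
  show centralChar _ _ = _
  rw [centralChar_central (hZ z.2)]
  exact (coe_cen Z hZ χ z).symm

theorem cen_pow (χ : IrrCharacter G) {Z : Subgroup G} (hZ : Z ≤ Subgroup.center G) (z : ↥Z) :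
    ((cen Z hZ χ z : ℂˣ) : ℂ) ^ Nat.card ↥Z = 1 := by
  have h1 : z ^ Nat.card ↥Z = 1 := pow_card_eq_one'
  rw [← Units.val_pow_eq_pow_val, ← map_pow, h1, map_one, Units.val_one]

theorem cen_memLocalRing (χ : IrrCharacter G) {Z : Subgroup G} (hZ : Z ≤ Subgroup.center G) (z : ↥Z) :
    MemLocalRing M ((cen Z hZ χ z : ℂˣ) : ℂ) := by
  refine memLocalRing_of_isIntegral (IsIntegral.of_pow (Nat.card_pos (α := ↥Z)) ?_)
  rw [cen_pow]
  exact isIntegral_one

/-- Central characters on a subgroup of order prime to `p` are seen modulo the local ideal. -/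
theorem cen_eq_of_omb (hM : IsPModular p M) {Z : Subgroup G} (hZ : Z ≤ Subgroup.center G)
    (hcop : ¬ p ∣ Nat.card ↥Z) {χ ψ : IrrCharacter G} (h : ∀ z : ↥Z, omb M χ z = omb M ψ z) :
    cen Z hZ χ = cen Z hZ ψ := by
  ext z
  have h1 := h z
  rw [omb_central χ hZ z (cen_memLocalRing χ hZ z), omb_central ψ hZ z (cen_memLocalRing ψ hZ z),
    residue_eq_iff] at h1
  set a := ((cen Z hZ χ z : ℂˣ) : ℂ) with ha
  set b := ((cen Z hZ ψ z : ℂˣ) : ℂ) with hb
  have hb0 : b ≠ 0 := Units.ne_zero _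
  have hbL : MemLocalRing M b⁻¹ := by
    have e : b⁻¹ = b ^ (Nat.card ↥Z - 1) := by
      have h2 : b ^ (Nat.card ↥Z - 1) * b = 1 := by
        rw [← pow_succ, Nat.sub_add_cancel Nat.card_pos]
        exact cen_pow ψ hZ z
      exact (eq_inv_of_mul_eq_one_left h2).symm
    rw [e]
    exact memLocalRing_pow (cen_memLocalRing ψ hZ z) _
  have h3 : MemLocalIdeal M (a / b - 1) := by
    have e : a / b - 1 = (a - b) * b⁻¹ := by
      field_simp
    rw [e]
    exact memLocalIdeal_mul_right h1 hbL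
  have h4 : (a / b) ^ Nat.card ↥Z = 1 := by
    rw [div_pow, ha, hb, cen_pow, cen_pow, div_one]
  have h5 := eq_one_of_memLocalIdeal hM hcop h4 h3
  rw [div_eq_one_iff_eq hb0] at h5
  exact h5

theorem omb_of_cen {Z : Subgroup G} (hZ : Z ≤ Subgroup.center G) {χ ψ : IrrCharacter G}
    (h : cen Z hZ χ = cen Z hZ ψ) (z : ↥Z) : omb M χ z = omb M ψ z := by
  rw [omb_central χ hZ z (cen_memLocalRing χ hZ z), omb_central ψ hZ z (cen_memLocalRing ψ hZ z)]
  congr 2
  rw [h]

/-- An irreducible character whose degree has the full `p`-part is alone in its block. -/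
theorem blockOf_singleton (hM : IsPModular p M) (χ : IrrCharacter G)
    (hd : p ^ (Nat.card G).factorization p ∣ charDegree (χ : G → ℂ)) :
    blockOf M (χ : G → ℂ) = {χ} := by
  have hp : p.Prime := hM.1
  have hloc : blockElt ({χ} : Set (IrrCharacter G)) ∈ localCenter G M := by
    refine ⟨isClassFunction_blockElt _, fun g => ?_⟩
    rw [coeff_blockElt, blockCoeff, finsum_mem_singleton]
    obtain ⟨e, he⟩ := hd
    obtain ⟨m, hcard, hnd⟩ : ∃ m, Nat.card G = p ^ (Nat.card G).factorization p * m ∧ ¬ p ∣ m :=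
      ⟨ordCompl[p] (Nat.card G), (Nat.ordProj_mul_ordCompl_eq_self _ _).symm,
        Nat.not_dvd_ordCompl hp Nat.card_pos.ne'⟩
    generalize (Nat.card G).factorization p = v at hcard he
    have hpow : ((p : ℕ) : ℂ) ^ v ≠ 0 := by
      exact_mod_cast (pow_ne_zero _ hp.ne_zero)
    have hm0 : ((m : ℕ) : ℂ) ≠ 0 := by
      have : m ≠ 0 := fun h => hnd (h ▸ dvd_zero _)
      exact_mod_cast this
    have e1 : (Nat.card G : ℂ)⁻¹ * ((χ : G → ℂ) 1 * (starRingEnd ℂ) ((χ : G → ℂ) g)) =
        (e : ℂ) * ((m : ℕ) : ℂ)⁻¹ * (starRingEnd ℂ) ((χ : G → ℂ) g) := by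
      rw [degree_eq χ, he, hcard]
      push_cast
      field_simp
    rw [e1]
    have hconj : IsIntegral ℤ ((starRingEnd ℂ) ((χ : G → ℂ) g)) := by
      rw [← Cfsg.Agent.Lib.Char.Complete.isIrr_inv χ.2]
      exact isIntegral_irr χ.2 _
    exact memLocalRing_mul (memLocalRing_mul (memLocalRing_natCast e)
      (memLocalRing_inv_natCast hM hnd)) (memLocalRing_of_isIntegral hconj)
  ext ψ
  rw [Set.mem_singleton_iff]
  constructor
  · intro h
    by_contra hne
    have h1 := memLocalIdeal_omega_sub χ.2 ψ.2 h hloc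
    rw [omega_blockElt_of_mem (Set.mem_singleton χ), omega_blockElt_of_notMem (A := {χ}) (χ := ψ) hne,
      sub_zero] at h1
    exact not_memLocalIdeal_one h1
  · rintro rfl
    exact sameBlock_refl _

end Residue

section Sylow

variable {P : Cfsg.BNPair G} {p : ℕ} {F : Type*} [Field F] [Fintype F] {ι : Type*}
  [Fintype ι] [DecidableEq ι] (S : Spl P p F ι)

open Cfsg.Agent.Lib.ModHecke.Core.Spl Cfsg.Agent.Lib.ChevOrder.BNCount in
/-- An element of `N` normalizing `U` lies in the torus. -/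
theorem torus_of_norm {n : G} (hn : n ∈ P.N) (h : ∀ u ∈ S.U, n⁻¹ * u * n ∈ S.U) : n ∈ P.B := by
  rw [← len_eq_zero_iff hn]
  by_contra h0
  obtain ⟨m, hm⟩ := Nat.exists_eq_succ_of_ne_zero h0
  obtain ⟨s, hs, n', hn', rfl, hlen⟩ := decomp_left hn hm
  obtain ⟨i, rfl⟩ := S.hes s hs
  have hx := S.x_mem i 1
  have hsx : S.e i * S.x i 1 * (S.e i)⁻¹ ∉ P.B := by
    intro hmem
    apply not_mem_B S (i := i) (a := (1 : F)) one_ne_zero
    have e : (S.e i)⁻¹ * S.x i 1 * S.e i =
        (S.e i * S.e i)⁻¹ * (S.e i * S.x i 1 * (S.e i)⁻¹) * (S.e i * S.e i) := by group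
    rw [e]
    have hb := (e_sq_T S i).1
    exact P.B.mul_mem (P.B.mul_mem (P.B.inv_mem hb) hmem) hb
  have h1 := len_lt_of_conj (S.he i) hn (S.U_le hx) hsx (S.U_le (h _ hx))
  have h2 := len_inv_mul (S.he i) (P.N.mul_mem (e_N S i) hn')
  rw [inv_mul_cancel_left] at h2
  omega

open Cfsg.Agent.Lib.ModHecke.Core.Spl in
/-- `U` is a Sylow subgroup. -/
theorem not_dvd_index : ¬ p ∣ S.U.index := by
  have : Fact p.Prime := ⟨S.hp⟩
  intro hdvd
  have hmod := S.hU.card_modEq_card_fixedPoints (G ⧸ S.U)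
  have hcardΩ : Nat.card (G ⧸ S.U) = S.U.index := rfl
  rw [hcardΩ] at hmod
  let φ : ↥(P.B ⊓ P.N) → MulAction.fixedPoints ↥S.U (G ⧸ S.U) := fun t =>
    ⟨((t : G) : G ⧸ S.U), by
      intro u
      show (((u : G) * (t : G) : G) : G ⧸ S.U) = _
      rw [QuotientGroup.eq]
      have e : ((u : G) * (t : G))⁻¹ * (t : G) = (t : G)⁻¹ * (u : G)⁻¹ * (t : G) := by group
      rw [e]
      exact norm_T_inv S t.2 (S.U.inv_mem u.2)⟩
  have hφ : Function.Bijective φ := by
    constructor
    · intro t t' h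
      have h1 : ((t : G) : G ⧸ S.U) = ((t' : G) : G ⧸ S.U) := congrArg Subtype.val h
      rw [QuotientGroup.eq] at h1
      have h2 := Cfsg.Agent.Lib.StBlocks.Form.eq_of_coset S t.2.2 t'.2 h1
      exact Subtype.ext h2
    · rintro ⟨c, hc⟩
      obtain ⟨g, rfl⟩ := QuotientGroup.mk_surjective c
      obtain ⟨n, hn, hg⟩ := exists_DC S g
      obtain ⟨u₁, hu₁, u₂, hu₂, rfl⟩ := (mem_DC S).1 hg
      have hfix : ∀ u ∈ S.U, (((u : G) * (u₁ * n * u₂) : G) : G ⧸ S.U) = ((u₁ * n * u₂ : G) : G ⧸ S.U) :=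
        fun u hu => hc ⟨u, hu⟩
      have hnU : ∀ u ∈ S.U, n⁻¹ * u * n ∈ S.U := by
        intro u hu
        have h1 := hfix (u₁ * u * u₁⁻¹) (S.U.mul_mem (S.U.mul_mem hu₁ hu) (S.U.inv_mem hu₁))
        rw [QuotientGroup.eq] at h1
        have e : (u₁ * u * u₁⁻¹ * (u₁ * n * u₂))⁻¹ * (u₁ * n * u₂) =
            u₂⁻¹ * (n⁻¹ * u⁻¹ * n) * u₂ := by group
        rw [e] at h1
        have h2 := S.U.mul_mem (S.U.mul_mem hu₂ h1) (S.U.inv_mem hu₂)
        have e2 : u₂ * (u₂⁻¹ * (n⁻¹ * u⁻¹ * n) * u₂) * u₂⁻¹ = n⁻¹ * u⁻¹ * n := by group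
        rw [e2] at h2
        have h3 := S.U.inv_mem h2
        have e3 : (n⁻¹ * u⁻¹ * n)⁻¹ = n⁻¹ * u * n := by group
        rwa [e3] at h3
      have hnB := torus_of_norm S hn hnU
      refine ⟨⟨n, hnB, hn⟩, Subtype.ext ?_⟩
      -- the coset of `n`
      have h1 := hfix u₁⁻¹ (S.U.inv_mem hu₁)
      show ((n : G) : G ⧸ S.U) = ((u₁ * n * u₂ : G) : G ⧸ S.U)
      rw [← h1, QuotientGroup.eq]
      have e : n⁻¹ * (u₁⁻¹ * (u₁ * n * u₂)) = u₂ := by group
      rw [e]
      exact hu₂
  have hcard : Nat.card (MulAction.fixedPoints ↥S.U (G ⧸ S.U)) = Nat.card ↥(P.B ⊓ P.N) :=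
    (Nat.card_eq_of_bijective φ hφ).symm
  rw [hcard] at hmod
  have h2 : p ∣ Nat.card ↥(P.B ⊓ P.N) := (Nat.modEq_zero_iff_dvd.1 (hmod.symm.trans (Nat.modEq_zero_iff_dvd.2 hdvd)))
  have h3 := S.T_cop
  rw [Nat.coprime_comm, Nat.Prime.coprime_iff_not_dvd S.hp] at h3
  exact h3 h2

end Sylow

section Main

variable {M : Ideal AlgInt} [hMp : M.IsPrime] {p : ℕ} {P : Cfsg.BNPair G} {F : Type*} [Field F] [Fintype F]
  {ι : Type*} [Fintype ι] [DecidableEq ι] [Nonempty ι] (S : Spl P p F ι) (D : Dat S)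

/-- The central elements of the torus. -/
def Zz (P : Cfsg.BNPair G) : Subgroup G := (P.B ⊓ P.N) ⊓ Subgroup.center G

theorem Zz_le : Zz P ≤ Subgroup.center G := inf_le_right

include S in
theorem not_dvd_card_Zz : ¬ p ∣ Nat.card ↥(Zz P) := by
  intro h
  have h1 : Nat.card ↥(Zz P) ∣ Nat.card ↥(P.B ⊓ P.N) := Subgroup.card_dvd_of_le inf_le_left
  have h3 := S.T_cop
  rw [Nat.coprime_comm, Nat.Prime.coprime_iff_not_dvd S.hp] at h3
  exact h3 (h.trans h1)

/-- Agreeing on the centre of the torus. -/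
theorem omb_eq_of_forms {χ ψ : IrrCharacter G} (h : FormA S (omb M χ)) (h' : FormA S (omb M ψ))
    (hc : cen (Zz P) Zz_le χ = cen (Zz P) Zz_le ψ) : omb M χ = omb M ψ :=
  formA_eq S h h' fun z hz hzc => omb_of_cen Zz_le hc ⟨z, hz, hzc⟩

include D in
/-- Every central character on the centre of the torus occurs in a character of degree prime to `p` with
the first form. -/
theorem exists_chi (hM : IsPModular p M) (l : ↥(Zz P) →* ℂˣ) :
    ∃ χ : IrrCharacter G, ¬ p ∣ charDegree (χ : G → ℂ) ∧ cen (Zz P) Zz_le χ = l ∧ FormA S (omb M χ) := by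
  by_cases hl : l = 1
  · refine ⟨oneIrr G, ?_, ?_, omb_one S D hM⟩
    · have h1 : charDegree ((oneIrr G : IrrCharacter G) : G → ℂ) = 1 := by
        simp [charDegree, oneIrr]
      rw [h1]
      exact hM.1.one_lt.not_ge ∘ Nat.le_of_dvd one_pos
    · rw [hl]
      ext z
      rw [coe_cen]
      simp [oneIrr]
  · obtain ⟨χ, h1, h2⟩ := exists_not_dvd hM.1 S.U (Zz P) Zz_le
      (fun z hz hu => torus_inf_U S hz.1 hu) (not_dvd_index S) l
    refine ⟨χ, h1, h2, ?_⟩
    rcases omb_cases S D hM χ with h | h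
    · exact h
    · exfalso
      apply hl
      rw [← h2]
      have h3 : cen (Zz P) Zz_le χ = cen (Zz P) Zz_le (oneIrr G) :=
        cen_eq_of_omb hM Zz_le (not_dvd_card_Zz S) fun z => by
          rw [formB_central S h z.2.1 z.2.2, omb_one_central z.2.2]
      rw [h3]
      ext z
      rw [coe_cen]
      simp [oneIrr]

include D in
/-- The classification of the `p`-blocks. -/
theorem blocks_main (hM : IsPModular p M) (St : IrrCharacter G)
    (hSt : p ^ (Nat.card G).factorization p ∣ charDegree (St : G → ℂ)) (hv : p ∣ Nat.card G) :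
    Nat.card {B : Set (IrrCharacter G) // IsPBlock M B} = Nat.card ↥(Zz P) + 1 ∧
      IsPBlock M ({St} : Set (IrrCharacter G)) ∧
      ∀ B : Set (IrrCharacter G), IsPBlock M B → B = {St} ∨ ∃ χ ∈ B, ¬ p ∣ charDegree (χ : G → ℂ) := by
  have hone : St ∈ blockOf M (St : G → ℂ) := sameBlock_refl _
  have hsing := blockOf_singleton hM St hSt
  have hpSt : p ∣ charDegree (St : G → ℂ) := by
    refine dvd_trans (dvd_pow_self p ?_) hSt
    have := hM.1.factorization_pos_of_dvd (Nat.card_pos (α := G)).ne' hv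
    omega
  choose chiL h1 h2 h3 using exists_chi (M := M) S D hM
  have hne : ∀ l, chiL l ≠ St := fun l h => h1 l (h ▸ hpSt)
  -- the Steinberg character has the second form
  have hStB : FormB S (omb M St) := by
    rcases omb_cases S D hM St with h | h
    · exfalso
      have h4 := omb_eq_of_forms S h (h3 (cen (Zz P) Zz_le St)) (h2 _).symm
      have h5 : chiL (cen (Zz P) Zz_le St) ∈ blockOf M (St : G → ℂ) := mem_blockOf_iff.2 h4
      rw [hsing] at h5
      exact hne _ h5
    · exact h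
  have hclass : ∀ χ : IrrCharacter G, blockOf M (χ : G → ℂ) = {St} ∨
      blockOf M (χ : G → ℂ) = blockOf M (chiL (cen (Zz P) Zz_le χ) : G → ℂ) := by
    intro χ
    rcases omb_cases S D hM χ with h | h
    · exact Or.inr (blockOf_eq (omb_eq_of_forms S h (h3 _) (h2 _).symm))
    · left
      rw [← hsing]
      exact blockOf_eq (formB_eq S h hStB)
  refine ⟨?_, ⟨St, hsing.symm⟩, ?_⟩
  · -- the count
    let f : (↥(Zz P) →* ℂˣ) ⊕ Unit → {B : Set (IrrCharacter G) // IsPBlock M B} := fun x =>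
      match x with
      | Sum.inl l => ⟨blockOf M (chiL l : G → ℂ), ⟨_, rfl⟩⟩
      | Sum.inr _ => ⟨{St}, ⟨St, hsing.symm⟩⟩
    have hf : Function.Bijective f := by
      constructor
      · rintro (l | _) (l' | _) h
        · have h4 : blockOf M (chiL l : G → ℂ) = blockOf M (chiL l' : G → ℂ) := congrArg Subtype.val h
          have h5 : chiL l' ∈ blockOf M (chiL l : G → ℂ) := by
            rw [h4]
            exact sameBlock_refl _
          have h6 := mem_blockOf_iff.1 h5
          have h7 : cen (Zz P) Zz_le (chiL l) = cen (Zz P) Zz_le (chiL l') :=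
            cen_eq_of_omb hM Zz_le (not_dvd_card_Zz S) fun z => congrFun h6 z
          rw [h2, h2] at h7
          rw [h7]
        · exfalso
          have h4 : blockOf M (chiL l : G → ℂ) = {St} := congrArg Subtype.val h
          have h5 : chiL l ∈ blockOf M (chiL l : G → ℂ) := sameBlock_refl _
          rw [h4] at h5
          exact hne _ h5
        · exfalso
          have h4 : ({St} : Set (IrrCharacter G)) = blockOf M (chiL l' : G → ℂ) := congrArg Subtype.val h
          have h5 : chiL l' ∈ blockOf M (chiL l' : G → ℂ) := sameBlock_refl _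
          rw [← h4] at h5
          exact hne _ h5
        · rfl
      · rintro ⟨B, χ, rfl⟩
        rcases hclass χ with h | h
        · exact ⟨Sum.inr (), Subtype.ext h.symm⟩
        · exact ⟨Sum.inl _, Subtype.ext h.symm⟩
    rw [← Nat.card_eq_of_bijective f hf]
    have hcard : Nat.card (↥(Zz P) →* ℂˣ) = Nat.card ↥(Zz P) := by
      letI : CommGroup ↥(Zz P) :=
        { (inferInstance : Group ↥(Zz P)) with
          mul_comm := fun a b => Subtype.ext ((Subgroup.mem_center_iff.1 a.2.2) (b : G)).symm }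
      exact CommGroup.card_monoidHom_of_hasEnoughRootsOfUnity ↥(Zz P) ℂ
    have hfin : Finite (↥(Zz P) →* ℂˣ) := by
      apply Nat.finite_of_card_ne_zero
      rw [hcard]
      exact Nat.card_pos.ne'
    rw [Nat.card_sum, hcard]
    simp
  · rintro B ⟨χ, rfl⟩
    rcases hclass χ with h | h
    · exact Or.inl h
    · right
      rw [h]
      exact ⟨_, sameBlock_refl _, h1 _⟩

end Main

end Cfsg.Agent.Lib.StBlocks.Count
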