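import Cfsg.Agent.Lib.ModHecke.Chars

/-!
Central characters in the defining characteristic: for a group with a split `(B,N)`-pair in which the
unipotent radicals of the maximal parabolic subgroups have small centralizers, a central character modulo `p`
is determined by its restriction to the centre of the group, or it is the one of the Steinberg type.
-/

set_option autoImplicit false
set_option linter.unusedSectionVars false

namespace Cfsg.Agent.Lib.StBlocks.Form

open Cfsg Cfsg.Agent.Lib.BNPair.Basic Cfsg.Agent.Lib.BNPair.Parabolic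
open Cfsg.Agent.Lib.ChevOrder.BNCount Cfsg.Agent.Lib.ModHecke.Core Cfsg.Agent.Lib.ModHecke.Frob
open Cfsg.Agent.Lib.ModHecke.Chars Cfsg.Agent.Lib.ModHecke.Core.Spl
open scoped Classical

variable {G : Type*} [Group G] [Fintype G] {P : Cfsg.BNPair G} {p : ℕ} {F : Type*} [Field F]
  [Fintype F] {ι : Type*} [Fintype ι] [DecidableEq ι]

/-- The extra data: the coroots and the unipotent radicals of the maximal parabolic subgroups. -/
structure Dat (S : Spl P p F ι) where
  hI : ι → Fˣ →* ↥(P.B ⊓ P.N)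
  hI_coe : ∀ i a, ((hI i a : ↥(P.B ⊓ P.N)) : G) = S.hh i a
  gen : ∀ A : Subgroup ↥(P.B ⊓ P.N), (∀ i a, hI i a ∈ A) → A = ⊤
  R : ι → Subgroup G
  R_le : ∀ j, R j ≤ S.U
  R_e : ∀ j i, i ≠ j → ∀ r ∈ R j, (S.e i)⁻¹ * r * S.e i ∈ R j
  R_t : ∀ j, ∀ t ∈ P.B ⊓ P.N, ∀ r ∈ R j, t⁻¹ * r * t ∈ R j
  BT : ∀ j x, (∀ r ∈ R j, x * r = r * x) → ∃ z ∈ P.B ⊓ P.N, z ∈ Subgroup.center G ∧ z⁻¹ * x ∈ S.U

/-- The number of elements of the class of `g` in a coset of `U`. -/
noncomputable def cnt (U : Subgroup G) (g : G) (c : G ⧸ U) : ℕ :=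
  (Finset.univ.filter fun x : G => IsConj g x ∧ (x : G ⧸ U) = c).card

section Cnt

variable (U : Subgroup G) {k : Type*} [Field k]

theorem cnt_inv_smul (g : G) {u : G} (hu : u ∈ U) (c : G ⧸ U) : cnt U g (u⁻¹ • c) = cnt U g c := by
  apply Finset.card_nbij' (fun x => u * x * u⁻¹) (fun x => u⁻¹ * x * u)
  · intro x hx
    simp only [Finset.coe_filter, Finset.mem_univ, true_and, Set.mem_ofPred_eq] at hx ⊢
    refine ⟨hx.1.trans (isConj_iff.2 ⟨u, rfl⟩), ?_⟩
    have h1 : ((u * x * u⁻¹ : G) : G ⧸ U) = (u * x : G) := by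
      rw [QuotientGroup.eq]
      have e : (u * x * u⁻¹)⁻¹ * (u * x) = u := by group
      rw [e]
      exact hu
    have h2 : ((u * x : G) : G ⧸ U) = u • (x : G ⧸ U) := rfl
    rw [h1, h2, hx.2, smul_inv_smul]
  · intro x hx
    simp only [Finset.coe_filter, Finset.mem_univ, true_and, Set.mem_ofPred_eq] at hx ⊢
    refine ⟨hx.1.trans (isConj_iff.2 ⟨u⁻¹, by group⟩), ?_⟩
    have h1 : ((u⁻¹ * x * u : G) : G ⧸ U) = (u⁻¹ * x : G) := by
      rw [QuotientGroup.eq]
      have e : (u⁻¹ * x * u)⁻¹ * (u⁻¹ * x) = u⁻¹ := by group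
      rw [e]
      exact U.inv_mem hu
    rw [h1]
    have h2 : ((u⁻¹ * x : G) : G ⧸ U) = u⁻¹ • (x : G ⧸ U) := rfl
    rw [h2, hx.2]
  · intro x _
    group
  · intro x _
    group

/-- The function counting the class of `g`. -/
noncomputable def cntF (k : Type*) [Field k] (g : G) : G ⧸ U → k := fun c => (cnt U g c : k)

theorem cntF_mem (g : G) : cntF U k g ∈ Fix U (pm U k) := by
  intro u hu
  funext c
  rw [pm_apply]
  simp only [cntF]
  rw [cnt_inv_smul U g hu]

variable {V : Type*} [AddCommGroup V] [Module k V] {ρ : Representation k G V}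

/-- The class sum on a fixed vector. -/
theorem sum_class {y : V} (hy : y ∈ Fix U ρ) (g : G) :
    ∑ x ∈ Finset.univ.filter (fun x => IsConj g x), ρ x y = phi U ρ y (cntF U k g) := by
  rw [phi_apply, ← Finset.sum_fiberwise (Finset.univ.filter fun x => IsConj g x) (fun x : G => (x : G ⧸ U))]
  refine Finset.sum_congr rfl fun c _ => ?_
  have h1 : ∀ x ∈ (Finset.univ.filter fun x => IsConj g x).filter (fun x : G => (x : G ⧸ U) = c),
      ρ x y = ρ (Quotient.out c) y := by
    intro x hx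
    rw [← (Finset.mem_filter.1 hx).2, rho_out hy]
  rw [Finset.sum_congr rfl h1, Finset.sum_const, cntF, cnt, Finset.filter_filter, Nat.cast_smul_eq_nsmul]

/-- Divisibility from the absence of fixed points. -/
theorem cnt_dvd {p : ℕ} (hp : p.Prime) (R : Subgroup G) (hR : IsPGroup p R) (hRU : R ≤ U) (g n : G)
    (hn : ∀ r ∈ R, n⁻¹ * r * n ∈ U)
    (hfix : ∀ x : G, (x : G ⧸ U) = (n : G ⧸ U) → ¬ ∀ r ∈ R, x * r = r * x) :
    p ∣ cnt U g (n : G ⧸ U) := by
  have : Fact p.Prime := ⟨hp⟩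
  let X := {x : G // IsConj g x ∧ (x : G ⧸ U) = (n : G ⧸ U)}
  have hact : ∀ (r : ↥R) (x : X), IsConj g ((r : G) * x.1 * (r : G)⁻¹) ∧
      (((r : G) * x.1 * (r : G)⁻¹ : G) : G ⧸ U) = (n : G ⧸ U) := by
    intro r x
    refine ⟨x.2.1.trans (isConj_iff.2 ⟨r, rfl⟩), ?_⟩
    have h1 := QuotientGroup.eq.1 x.2.2
    rw [QuotientGroup.eq]
    have e : ((r : G) * x.1 * (r : G)⁻¹)⁻¹ * n = (r : G) * (x.1⁻¹ * n) * (n⁻¹ * (r : G)⁻¹ * n) := by
      group
    rw [e]
    refine U.mul_mem (U.mul_mem (hRU r.2) h1) ?_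
    exact hn _ (R.inv_mem r.2)
  let _ : MulAction ↥R X :=
    { smul := fun r x => ⟨(r : G) * x.1 * (r : G)⁻¹, hact r x⟩
      one_smul := fun x => Subtype.ext (by
        show ((1 : ↥R) : G) * x.1 * ((1 : ↥R) : G)⁻¹ = x.1
        simp)
      mul_smul := fun a b x => Subtype.ext (by
        show ((a * b : ↥R) : G) * x.1 * ((a * b : ↥R) : G)⁻¹ =
          (a : G) * ((b : G) * x.1 * (b : G)⁻¹) * (a : G)⁻¹
        simp only [Subgroup.coe_mul]
        group) }
  have hsmul : ∀ (r : ↥R) (x : X), ((r • x : X) : G) = (r : G) * x.1 * (r : G)⁻¹ := fun _ _ => rfl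
  have hmod := hR.card_modEq_card_fixedPoints X
  have hempty : IsEmpty (MulAction.fixedPoints ↥R X) := by
    refine ⟨fun x => ?_⟩
    apply hfix x.1.1 x.1.2.2
    intro r hr
    have h1 := congrArg Subtype.val (x.2 ⟨r, hr⟩)
    rw [hsmul] at h1
    have e : r * (x.1.1) = r * x.1.1 * r⁻¹ * r := by group
    rw [e]
    show x.1.1 * r = (r * x.1.1 * r⁻¹) * r
    rw [h1]
  have hc0 : Nat.card (MulAction.fixedPoints ↥R X) = 0 := by simp
  rw [hc0] at hmod
  have hdvd := Nat.modEq_zero_iff_dvd.mp hmod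
  have hcard : Nat.card X = cnt U g (n : G ⧸ U) := by
    rw [Nat.card_eq_fintype_card, Fintype.card_subtype]
    rfl
  rwa [hcard] at hdvd

/-- The class of a central element. -/
theorem cnt_central {z : G} (hz : z ∈ Subgroup.center G) (c : G ⧸ U) :
    cnt U z c = if c = (z : G ⧸ U) then 1 else 0 := by
  have h1 : ∀ x : G, IsConj z x ↔ x = z := by
    intro x
    constructor
    · intro h
      obtain ⟨c, rfl⟩ := isConj_iff.1 h
      rw [(Subgroup.mem_center_iff.1 hz) c]
      group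
    · rintro rfl
      exact IsConj.refl _
  rw [cnt]
  simp only [h1]
  split_ifs with h
  · subst h
    rw [Finset.card_eq_one]
    refine ⟨z, ?_⟩
    ext x
    simp only [Finset.mem_filter, Finset.mem_univ, true_and, Finset.mem_singleton]
    exact ⟨fun h => h.1, fun h => ⟨h, by rw [h]⟩⟩
  · rw [Finset.card_eq_zero, Finset.filter_eq_empty_iff]
    rintro x _ ⟨rfl, h2⟩
    exact h h2.symm

end Cnt

section Main

variable (S : Spl P p F ι) (D : Dat S)
variable {k : Type*} [Field k]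

theorem torus_inf_U {t : G} (ht : t ∈ P.B ⊓ P.N) (hu : t ∈ S.U) : t = 1 := by
  have : Fact p.Prime := ⟨S.hp⟩
  obtain ⟨a, ha⟩ := (IsPGroup.iff_orderOf.1 S.hU) ⟨t, hu⟩
  have h1 : t ^ p ^ a = 1 := by
    have : (⟨t, hu⟩ : ↥S.U) ^ p ^ a = 1 := by
      rw [← ha]
      exact pow_orderOf_eq_one _
    simpa using congrArg Subtype.val this
  exact T_pow_eq_one S ht h1

/-- Cosets of elements of `N` and central elements of the torus. -/
theorem eq_of_coset {n z : G} (hn : n ∈ P.N) (hz : z ∈ P.B ⊓ P.N)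
    (h : n⁻¹ * z ∈ S.U) : n = z := by
  have h1 : n⁻¹ * z ∈ P.B ⊓ P.N := ⟨S.U_le h, P.N.mul_mem (P.N.inv_mem hn) hz.2⟩
  have h2 := torus_inf_U S h1 h
  have h3 : z = n * (n⁻¹ * z) := by group
  rw [h3, h2, mul_one]

section Numbers

variable {V : Type*} [AddCommGroup V] [Module k V] {ρ : Representation k G V}
  {χ : ↥(HH (k := k) S) →ₗ[k] k} (hχ : IsChi S χ) {y : V} (hy : y ∈ Fix S.U ρ) (hy0 : y ≠ 0)
  (hyχ : ∀ a : ↥(HH (k := k) S), phi S.U ρ y (a : G ⧸ S.U → k) = χ a • y)
  {ω : G → k} (hω : ∀ g w, ∑ x ∈ Finset.univ.filter (fun x => IsConj g x), ρ x w = ω g • w)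

include hy hy0 hyχ hω in
/-- The central character in terms of the Hecke algebra. -/
theorem omega_eq (g : G) :
    ω g = ∑ n : ↥P.N, (cnt S.U g ((n : G) : G ⧸ S.U) : k) * χ (TH S (n : G)) := by
  have h1 := hω g y
  rw [sum_class S.U hy g] at h1
  have h2 := hyχ ⟨cntF S.U k g, cntF_mem S.U g⟩
  have h3 : χ ⟨cntF S.U k g, cntF_mem S.U g⟩ • y = ω g • y := by
    rw [← h2, ← h1]
  have h4 := smul_left_injective k hy0 h3
  rw [← h4]
  conv_lhs => rw [eq_sum_TH S ⟨cntF S.U k g, cntF_mem S.U g⟩]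
  rw [map_sum]
  refine Finset.sum_congr rfl fun n _ => ?_
  rw [map_smul]
  rfl

include hy hy0 hyχ hω in
theorem chi_central {z : G} (hz : z ∈ P.B ⊓ P.N) (hzc : z ∈ Subgroup.center G) :
    χ (TH S z) = ω z := by
  have h1 := hω z y
  have h2 : Finset.univ.filter (fun x => IsConj z x) = {z} := by
    ext x
    simp only [Finset.mem_filter, Finset.mem_univ, true_and, Finset.mem_singleton]
    constructor
    · intro h
      obtain ⟨c, rfl⟩ := isConj_iff.1 h
      rw [(Subgroup.mem_center_iff.1 hzc) c]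
      group
    · rintro rfl
      exact IsConj.refl _
  rw [h2, Finset.sum_singleton, ← phi_T_torus_left S hy hz] at h1
  have h3 := hyχ (TH S z)
  have h4 : χ (TH S z) • y = ω z • y := by
    rw [← h3, ← h1]
    rfl
  exact smul_left_injective k hy0 h4

include hχ in
/-- A character not vanishing at an element not involving the generator `i₀`. -/
theorem stable_of_ne (i₀ : ι) (h0 : χ (TH S (S.e i₀)) = 0)
    (n : G) (hn : n ∈ P.N) (hne : χ (TH S n) ≠ 0) : ∀ r ∈ D.R i₀, n⁻¹ * r * n ∈ D.R i₀ := by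
  have key : ∀ (m : ℕ) (x : G), x ∈ P.N → len P x = m → χ (TH S x) ≠ 0 →
      ∀ r ∈ D.R i₀, x⁻¹ * r * x ∈ D.R i₀ := by
    intro m
    induction m with
    | zero =>
      intro x hx h _ r hr
      exact D.R_t i₀ x ⟨(len_eq_zero_iff hx).1 h, hx⟩ r hr
    | succ m ih =>
      intro x hx hm hne r hr
      obtain ⟨s, hs, n', hn', rfl, hlen⟩ := decomp_left hx hm
      obtain ⟨i, rfl⟩ := S.hes s hs
      have hlt : len P n' < len P (S.e i * n') := by omega
      rw [← stH_T_asc S hn' hlt, hχ.map_mul] at hne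
      have hi : i ≠ i₀ := by
        rintro rfl
        rw [h0, zero_mul] at hne
        exact hne rfl
      have h2 := ih n' hn' hlen (right_ne_zero_of_mul hne) _ (D.R_e i₀ i hi r hr)
      have e : (S.e i * n')⁻¹ * r * (S.e i * n') = n'⁻¹ * ((S.e i)⁻¹ * r * S.e i) * n' := by group
      rw [e]
      exact h2
  exact key _ n hn rfl hne

/-- The two possible forms of a central character. -/
def FormA (S : Spl P p F ι) (ω : G → k) : Prop :=
  ∀ g, ω g = ∑ n : ↥P.N, if (n : G) ∈ P.B ∧ (n : G) ∈ Subgroup.center G then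
    (cnt S.U g ((n : G) : G ⧸ S.U) : k) * ω n else 0

def FormB (S : Spl P p F ι) (ω : G → k) : Prop :=
  ∀ g, ω g = ∑ n : ↥P.N, (cnt S.U g ((n : G) : G ⧸ S.U) : k) * (-1) ^ len P (n : G)

include D hχ hy hy0 hyχ hω in
/-- The first form. -/
theorem formA_of_zero [CharP k p] (i₀ : ι) (h0 : χ (TH S (S.e i₀)) = 0) : FormA S ω := by
  intro g
  rw [omega_eq S hy hy0 hyχ hω g]
  refine Finset.sum_congr rfl fun n _ => ?_
  split_ifs with hn
  · rw [chi_central S hy hy0 hyχ hω ⟨hn.1, n.2⟩ hn.2]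
  · by_cases hne : χ (TH S (n : G)) = 0
    · rw [hne, mul_zero]
    · have hst := stable_of_ne S D hχ i₀ h0 n n.2 hne
      have hRp : IsPGroup p (D.R i₀) := S.hU.to_le (D.R_le i₀)
      have hd := cnt_dvd S.U S.hp (D.R i₀) hRp (D.R_le i₀) g n (fun r hr => D.R_le i₀ (hst r hr)) ?_
      · obtain ⟨c, hc⟩ := hd
        rw [hc, Nat.cast_mul, CharP.cast_eq_zero k p, zero_mul, zero_mul]
      · intro x hx hcomm
        obtain ⟨z, hz, hzc, hzu⟩ := D.BT i₀ x hcomm
        have h1 := QuotientGroup.eq.1 hx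
        have h2 : (n : G)⁻¹ * z ∈ S.U := by
          have e : (n : G)⁻¹ * z = ((n : G)⁻¹ * x)⁻¹⁻¹ * (z⁻¹ * x)⁻¹ := by group
          rw [e]
          refine S.U.mul_mem ?_ (S.U.inv_mem hzu)
          have := S.U.inv_mem h1
          have e2 : (x⁻¹ * (n : G))⁻¹ = (n : G)⁻¹ * x := by group
          rw [e2] at this
          simpa using this
        have h3 := eq_of_coset S n.2 hz h2
        rw [h3] at hn
        exact hn ⟨hz.1, hzc⟩

variable (hq : (Fintype.card F : k) = 0) [CharP k p]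

include hq in
theorem c_sq' (i : ι) (hχ : IsChi S χ) :
    χ (TH S (S.e i)) * χ (TH S (S.e i)) =
      χ (TH S (S.e i)) * ∑ x : Fˣ, ((resU S hχ (D.hI i x) : kˣ) : k) := by
  have e : stH S (TH S (S.e i)) (TH S (S.e i)) =
      ∑ a ∈ Finset.univ.erase (0 : F), (TH S (S.e i * S.hh i (-a)) : ↥(HH (k := k) S)) := by
    apply Subtype.ext
    rw [Submodule.coe_sum]
    exact phi_T_sq S hq i
  rw [← hχ.map_mul, e, map_sum]
  have e2 : ∀ a ∈ Finset.univ.erase (0 : F), χ (TH S (S.e i * S.hh i (-a))) =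
      χ (TH S (S.e i)) * χ (TH S (S.hh i (-a))) := by
    intro a ha
    have ha0 : -a ≠ 0 := neg_ne_zero.2 (Finset.mem_erase.1 ha).1
    rw [TH_e_mul_torus S i (S.h_mem i _ ha0), hχ.map_mul]
  rw [Finset.sum_congr rfl e2, ← Finset.mul_sum]
  congr 1
  rw [sum_erase_neg (fun a => χ (TH S (S.hh i a)))]
  refine Finset.sum_congr rfl fun x _ => ?_
  rw [resU_coe, D.hI_coe]

include hq in
theorem c_cases' (hχ : IsChi S χ) (i : ι) :
    χ (TH S (S.e i)) = 0 ∨ (χ (TH S (S.e i)) = -1 ∧ (resU S hχ).comp (D.hI i) = 1) := by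
  by_cases h0 : χ (TH S (S.e i)) = 0
  · exact Or.inl h0
  right
  have h1 := mul_left_cancel₀ h0 (c_sq' S D hq i hχ)
  by_cases hν : (resU S hχ).comp (D.hI i) = 1
  · refine ⟨?_, hν⟩
    rw [h1, ← sum_char_one (F := F) (k := k) hq]
    refine Finset.sum_congr rfl fun x _ => ?_
    rw [← hν]
    rfl
  · exfalso
    apply h0
    rw [h1]
    exact sum_char_of_ne_one hν

include D hχ hy hy0 hyχ hω hq in
/-- If no generator acts by zero: the second form. -/
theorem formB_of_ne (h0 : ∀ i, χ (TH S (S.e i)) ≠ 0) : FormB S ω := by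
  have hc : ∀ i, χ (TH S (S.e i)) = -1 := fun i =>
    ((c_cases' S D hq hχ i).resolve_left (h0 i)).1
  have hres : resU S hχ = 1 := by
    have hker : (resU S hχ).ker = ⊤ := by
      apply D.gen
      intro i a
      rw [MonoidHom.mem_ker]
      have := congrArg (fun f : Fˣ →* kˣ => f a) ((c_cases' S D hq hχ i).resolve_left (h0 i)).2
      exact this
    rw [← MonoidHom.ker_eq_top_iff]
    exact hker
  have ht : ∀ t (ht : t ∈ P.B ⊓ P.N), χ (TH S t) = 1 := by
    intro t ht
    have := resU_coe S hχ ⟨t, ht⟩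
    rw [hres] at this
    simpa using this.symm
  have key : ∀ (m : ℕ) (x : G), x ∈ P.N → len P x = m → χ (TH S x) = (-1) ^ m := by
    intro m
    induction m with
    | zero =>
      intro x hx h
      rw [ht x ⟨(len_eq_zero_iff hx).1 h, hx⟩, pow_zero]
    | succ m ih =>
      intro x hx hm
      obtain ⟨s, hs, n', hn', rfl, hlen⟩ := decomp_left hx hm
      obtain ⟨i, rfl⟩ := S.hes s hs
      have hlt : len P n' < len P (S.e i * n') := by omega
      rw [← stH_T_asc S hn' hlt, hχ.map_mul, hc, ih n' hn' hlen, pow_succ]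
      ring
  intro g
  rw [omega_eq S hy hy0 hyχ hω g]
  refine Finset.sum_congr rfl fun n _ => ?_
  rw [key _ n n.2 rfl]

end Numbers

section Cases

variable [CharP k p] [IsAlgClosed k] (hq : (Fintype.card F : k) = 0)
variable {V : Type*} [AddCommGroup V] [Module k V] [FiniteDimensional k V] [Nontrivial V]
  {ρ : Representation k G V} {ω : G → k}

include D hq in
/-- A central character has one of the two forms. -/
theorem form_cases (hω : ∀ g w, ∑ x ∈ Finset.univ.filter (fun x => IsConj g x), ρ x w = ω g • w) :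
    FormA S ω ∨ FormB S ω := by
  obtain ⟨y, hy, hy0, hc⟩ := exists_eigen S hq (Fix_ne_bot S ρ)
  obtain ⟨χ, hχ, hyχ⟩ := exists_chi_of_eigen S _ hy hy0 hc
  by_cases h : ∃ i, χ (TH S (S.e i)) = 0
  · obtain ⟨i₀, h0⟩ := h
    exact Or.inl (formA_of_zero S D hχ hy hy0 hyχ hω i₀ h0)
  · push Not at h
    exact Or.inr (formB_of_ne S D hχ hy hy0 hyχ hω hq h)

include D hq in
/-- The central character of the principal character has the first form. -/
theorem formA_trivial [Nonempty ι] :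
    FormA S (fun g => (((Finset.univ.filter (fun x => IsConj g x)).card : ℕ) : k)) := by
  let ρ₁ : Representation k G k := Representation.trivial k G k
  have hρ : ∀ g w, ρ₁ g w = w := fun _ _ => rfl
  have hω : ∀ g w, ∑ x ∈ Finset.univ.filter (fun x => IsConj g x), ρ₁ x w =
      (((Finset.univ.filter (fun x => IsConj g x)).card : ℕ) : k) • w := by
    intro g w
    simp only [hρ, Finset.sum_const, Nat.cast_smul_eq_nsmul]
  obtain ⟨y, hy, hy0, hc⟩ := exists_eigen S hq (Fix_ne_bot S ρ₁)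
  obtain ⟨χ, hχ, hyχ⟩ := exists_chi_of_eigen S _ hy hy0 hc
  obtain ⟨i₀⟩ := ‹Nonempty ι›
  refine formA_of_zero S D hχ hy hy0 hyχ hω i₀ ?_
  have h1 := hyχ (TH S (S.e i₀))
  have h2 : phi S.U ρ₁ y (T S k (S.e i₀)) = 0 := by
    rw [phi_T_e S hy]
    simp only [hρ, Finset.sum_const, Finset.card_univ, ← Nat.cast_smul_eq_nsmul k, hq, zero_smul]
  have h3 : χ (TH S (S.e i₀)) • y = 0 := by
    rw [← h1]
    exact h2
  exact (smul_eq_zero.1 h3).resolve_right hy0

end Cases

section Forms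

variable {ω ω' : G → k}

theorem formA_eq (h : FormA S ω) (h' : FormA S ω')
    (hz : ∀ z ∈ P.B ⊓ P.N, z ∈ Subgroup.center G → ω z = ω' z) : ω = ω' := by
  funext g
  rw [h g, h' g]
  refine Finset.sum_congr rfl fun n _ => ?_
  split_ifs with hn
  · rw [hz _ ⟨hn.1, n.2⟩ hn.2]
  · rfl

theorem formB_eq (h : FormB S ω) (h' : FormB S ω') : ω = ω' := by
  funext g
  rw [h g, h' g]

theorem formB_central (h : FormB S ω) {z : G} (hz : z ∈ P.B ⊓ P.N) (hzc : z ∈ Subgroup.center G) :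
    ω z = 1 := by
  rw [h z]
  rw [Finset.sum_eq_single (⟨z, hz.2⟩ : ↥P.N)]
  · rw [cnt_central _ hzc, if_pos rfl, (len_eq_zero_iff hz.2).2 hz.1]
    simp
  · intro n _ hn
    rw [cnt_central _ hzc, if_neg, Nat.cast_zero, zero_mul]
    intro h1
    apply hn
    apply Subtype.ext
    exact eq_of_coset S n.2 hz (QuotientGroup.eq.1 h1)
  · simp

end Forms

end Main

end Cfsg.Agent.Lib.StBlocks.Form
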