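import Mathlib
import Cfsg.Agent.Lib.Linalg.AutPSLSylow
import Cfsg.Agent.Lib.Linalg.Transvection

/-!
Monomial matrices in `SL_n(F)`, two by two blocks, conjugation of elementary transvections.
-/

set_option autoImplicit false
set_option linter.unusedSectionVars false
set_option linter.unusedSimpArgs false

namespace Cfsg.Agent.Lib.StBlocks.SLBasic

open Matrix Cfsg.Agent.Lib.Linalg.AutPSLSylow Cfsg.Agent.Lib.Linalg.Transvection

variable {n : ℕ} {F : Type*} [Field F]

local notation "SLG" => Matrix.SpecialLinearGroup (Fin n) F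
local notation "tv" => Matrix.SpecialLinearGroup.transvection

theorem tv_apply {i j : Fin n} (h : i ≠ j) (c : F) (a b : Fin n) :
    ((tv h c : SLG) : Matrix (Fin n) (Fin n) F) a b =
      (if a = b then 1 else 0) + (if a = i ∧ b = j then c else 0) :=
  transvection_apply_eq i j a b c

/-! ### Blocks -/

/-- A two by two block in the positions `a`, `b`. -/
def Phi (a b : Fin n) (p q r s : F) : Matrix (Fin n) (Fin n) F :=
  Matrix.of fun k l =>
    if k = a then (if l = a then p else if l = b then q else 0)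
    else if k = b then (if l = a then r else if l = b then s else 0)
    else if k = l then 1 else 0

theorem Phi_mul_apply {a b : Fin n} (hab : a ≠ b) (p q r s : F) (M : Matrix (Fin n) (Fin n) F)
    (k l : Fin n) :
    (Phi a b p q r s * M) k l = if k = a then p * M a l + q * M b l
      else if k = b then r * M a l + s * M b l else M k l := by
  rw [Matrix.mul_apply]
  by_cases h1 : k = a
  · subst h1
    rw [if_pos rfl, Finset.sum_eq_add k b hab]
    · simp [Phi, hab.symm]
    · intro c _ hc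
      simp [Phi, hc.1, hc.2]
    · simp
    · simp
  · by_cases h2 : k = b
    · subst h2
      rw [if_neg h1, if_pos rfl, Finset.sum_eq_add a k hab]
      · simp [Phi, hab, hab.symm]
      · intro c _ hc
        simp [Phi, hab.symm, hc.1, hc.2]
      · simp
      · simp
    · rw [if_neg h1, if_neg h2, Finset.sum_eq_single k]
      · simp [Phi, h1, h2]
      · intro c _ hc
        simp [Phi, h1, h2, Ne.symm hc]
      · simp

theorem Phi_mul {a b : Fin n} (hab : a ≠ b) (p q r s p' q' r' s' : F) :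
    Phi a b p q r s * Phi a b p' q' r' s' =
      Phi a b (p * p' + q * r') (p * q' + q * s') (r * p' + s * r') (r * q' + s * s') := by
  ext k l
  rw [Phi_mul_apply hab]
  by_cases h1 : k = a
  · subst h1
    by_cases h3 : l = k
    · subst h3
      simp [Phi, hab, hab.symm]
    · by_cases h4 : l = b
      · subst h4
        simp [Phi, hab, hab.symm]
      · simp [Phi, hab, hab.symm, h3, h4]
  · by_cases h2 : k = b
    · subst h2
      by_cases h3 : l = a
      · subst h3
        simp [Phi, hab, hab.symm]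
      · by_cases h4 : l = k
        · subst h4
          simp [Phi, hab, hab.symm]
        · simp [Phi, hab, hab.symm, h3, h4]
    · simp [Phi, h1, h2]

theorem tv_coe_Phi {a b : Fin n} (hab : a ≠ b) (c : F) :
    ((tv hab c : SLG) : Matrix (Fin n) (Fin n) F) = Phi a b 1 c 0 1 := by
  ext k l
  rw [tv_apply]
  simp only [Phi, Matrix.of_apply]
  split_ifs <;> simp_all

theorem tv_symm_coe_Phi {a b : Fin n} (hab : a ≠ b) (c : F) :
    ((tv hab.symm c : SLG) : Matrix (Fin n) (Fin n) F) = Phi a b 1 0 c 1 := by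
  ext k l
  rw [tv_apply]
  simp only [Phi, Matrix.of_apply]
  split_ifs <;> simp_all

/-- The element `n(c) = x(c) y(-c⁻¹) x(c)`. -/
noncomputable def nn {a b : Fin n} (hab : a ≠ b) (c : F) : SLG :=
  tv hab c * (tv hab.symm (-c⁻¹) * tv hab c)

theorem nn_coe {a b : Fin n} (hab : a ≠ b) {c : F} (hc : c ≠ 0) :
    ((nn hab c : SLG) : Matrix (Fin n) (Fin n) F) = Phi a b 0 c (-c⁻¹) 0 := by
  rw [nn, Matrix.SpecialLinearGroup.coe_mul, Matrix.SpecialLinearGroup.coe_mul, tv_coe_Phi hab, tv_symm_coe_Phi hab,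
    Phi_mul hab, Phi_mul hab]
  congr 1 <;> field_simp <;> ring

/-- The element `h(c) = n(c) n(-1)`. -/
noncomputable def hh {a b : Fin n} (hab : a ≠ b) (c : F) : SLG := nn hab c * nn hab (-1)

theorem hh_coe {a b : Fin n} (hab : a ≠ b) {c : F} (hc : c ≠ 0) :
    ((hh hab c : SLG) : Matrix (Fin n) (Fin n) F) = Phi a b c 0 0 c⁻¹ := by
  rw [hh, Matrix.SpecialLinearGroup.coe_mul, nn_coe hab hc, nn_coe hab (by simp), Phi_mul hab]
  congr 1 <;> simp

theorem hh_mul {a b : Fin n} (hab : a ≠ b) {c d : F} (hc : c ≠ 0) (hd : d ≠ 0) :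
    hh hab (c * d) = hh hab c * hh hab d := by
  apply Subtype.ext
  rw [Matrix.SpecialLinearGroup.coe_mul, hh_coe hab (mul_ne_zero hc hd), hh_coe hab hc, hh_coe hab hd, Phi_mul hab]
  congr 1 <;> simp [mul_comm]

/-- `e = n(1)`. -/
noncomputable abbrev ee {a b : Fin n} (hab : a ≠ b) : SLG := nn hab 1

theorem ee_coe {a b : Fin n} (hab : a ≠ b) :
    ((ee hab : SLG) : Matrix (Fin n) (Fin n) F) = Phi a b 0 1 (-1) 0 := by
  rw [nn_coe hab one_ne_zero]
  simp

theorem Phi_one {a b : Fin n} (hab : a ≠ b) : Phi a b (1 : F) 0 0 1 = 1 := by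
  ext k l
  simp only [Phi, Matrix.of_apply, Matrix.one_apply]
  split_ifs <;> simp_all

theorem ee_inv {a b : Fin n} (hab : a ≠ b) : (ee hab : SLG)⁻¹ = nn hab (-1) := by
  apply inv_eq_of_mul_eq_one_right
  apply Subtype.ext
  rw [Matrix.SpecialLinearGroup.coe_mul, nn_coe hab one_ne_zero, nn_coe hab (by simp), Phi_mul hab]
  simp [Phi_one hab]

/-! ### Monomial matrices -/

/-- `g` is monomial with permutation `π`: the nonzero entries in column `c` are in row `π c`. -/
def IsMon (g : SLG) (π : Equiv.Perm (Fin n)) : Prop :=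
  ∀ r c, (g : Matrix (Fin n) (Fin n) F) r c ≠ 0 ↔ r = π c

theorem isMon_one : IsMon (1 : SLG) 1 := by
  intro r c
  simp [Matrix.one_apply]

theorem IsMon.mul_apply {g : SLG} {π : Equiv.Perm (Fin n)} (hg : IsMon g π)
    (M : Matrix (Fin n) (Fin n) F) (r c : Fin n) :
    (M * (g : Matrix (Fin n) (Fin n) F)) r c = M r (π c) * (g : Matrix (Fin n) (Fin n) F) (π c) c := by
  rw [Matrix.mul_apply, Finset.sum_eq_single (π c)]
  · intro k _ hk
    have : (g : Matrix (Fin n) (Fin n) F) k c = 0 := by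
      by_contra h
      exact hk ((hg k c).1 h)
    rw [this, mul_zero]
  · simp

theorem IsMon.apply_mul {g : SLG} {π : Equiv.Perm (Fin n)} (hg : IsMon g π)
    (M : Matrix (Fin n) (Fin n) F) (r c : Fin n) :
    ((g : Matrix (Fin n) (Fin n) F) * M) r c =
      (g : Matrix (Fin n) (Fin n) F) r (π⁻¹ r) * M (π⁻¹ r) c := by
  rw [Matrix.mul_apply, Finset.sum_eq_single (π⁻¹ r)]
  · intro k _ hk
    have : (g : Matrix (Fin n) (Fin n) F) r k = 0 := by
      by_contra h
      apply hk
      rw [(hg r k).1 h]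
      simp
    rw [this, zero_mul]
  · simp

theorem IsMon.ne_zero {g : SLG} {π : Equiv.Perm (Fin n)} (hg : IsMon g π) (c : Fin n) :
    (g : Matrix (Fin n) (Fin n) F) (π c) c ≠ 0 := (hg _ _).2 rfl

theorem IsMon.ne_zero' {g : SLG} {π : Equiv.Perm (Fin n)} (hg : IsMon g π) (r : Fin n) :
    (g : Matrix (Fin n) (Fin n) F) r (π⁻¹ r) ≠ 0 := (hg _ _).2 (by simp)

theorem IsMon.mul {g g' : SLG} {π π' : Equiv.Perm (Fin n)} (hg : IsMon g π) (hg' : IsMon g' π') :
    IsMon (g * g') (π * π') := by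
  intro r c
  rw [Matrix.SpecialLinearGroup.coe_mul, hg'.mul_apply]
  constructor
  · intro h
    exact (hg _ _).1 (left_ne_zero_of_mul h)
  · intro h
    exact mul_ne_zero ((hg _ _).2 h) (hg'.ne_zero c)

theorem IsMon.unique {g : SLG} {π π' : Equiv.Perm (Fin n)} (hg : IsMon g π) (hg' : IsMon g π') :
    π = π' := by
  ext c
  exact congrArg _ ((hg' _ _).1 (hg.ne_zero c))

variable [Finite F]

/-- The monomial subgroup. -/
def Nsub (n : ℕ) (F : Type*) [Field F] [Finite F] : Subgroup (Matrix.SpecialLinearGroup (Fin n) F) where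
  carrier := {g | ∃ π, IsMon g π}
  mul_mem' := by
    rintro a b ⟨π, h⟩ ⟨π', h'⟩
    exact ⟨_, h.mul h'⟩
  one_mem' := ⟨1, isMon_one⟩
  inv_mem' := by
    intro s hs
    have hpow : ∀ k : ℕ, ∃ π, IsMon (s ^ k) π := by
      intro k
      induction k with
      | zero => exact ⟨1, by simpa using isMon_one⟩
      | succ k ih =>
        obtain ⟨π, h⟩ := ih
        obtain ⟨π', h'⟩ := hs
        rw [pow_succ]
        exact ⟨_, h.mul h'⟩
    have h1 : s⁻¹ = s ^ (orderOf s - 1) := by
      have h0 : 0 < orderOf s := orderOf_pos s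
      apply inv_eq_of_mul_eq_one_left
      rw [← pow_succ, Nat.sub_add_cancel h0, pow_orderOf_eq_one]
    show ∃ π, IsMon s⁻¹ π
    rw [h1]
    exact hpow _

theorem mem_Nsub {g : SLG} : g ∈ Nsub n F ↔ ∃ π, IsMon g π := Iff.rfl

theorem IsMon.inv {g : SLG} {π : Equiv.Perm (Fin n)} (hg : IsMon g π) : IsMon g⁻¹ π⁻¹ := by
  obtain ⟨σ, hσ⟩ := (Nsub n F).inv_mem (⟨π, hg⟩ : g ∈ Nsub n F)
  have h1 := hg.mul hσ
  rw [mul_inv_cancel] at h1
  have h2 := h1.unique isMon_one
  have h3 : σ = π⁻¹ := by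
    exact eq_inv_of_mul_eq_one_right h2
  rwa [h3] at hσ

/-- Conjugation of a matrix by a monomial matrix. -/
theorem IsMon.conj_apply {g : SLG} {π : Equiv.Perm (Fin n)} (hg : IsMon g π)
    (M : Matrix (Fin n) (Fin n) F) (r c : Fin n) :
    ((g : Matrix (Fin n) (Fin n) F) * M * ((g⁻¹ : SLG) : Matrix (Fin n) (Fin n) F)) r c =
      (g : Matrix (Fin n) (Fin n) F) r (π⁻¹ r) * M (π⁻¹ r) (π⁻¹ c) *
        ((g⁻¹ : SLG) : Matrix (Fin n) (Fin n) F) (π⁻¹ c) c := by
  rw [hg.inv.mul_apply, hg.apply_mul]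

theorem IsMon.diag_mul {g : SLG} {π : Equiv.Perm (Fin n)} (hg : IsMon g π) (r : Fin n) :
    (g : Matrix (Fin n) (Fin n) F) r (π⁻¹ r) * ((g⁻¹ : SLG) : Matrix (Fin n) (Fin n) F) (π⁻¹ r) r = 1 := by
  have h1 : ((g * g⁻¹ : SLG) : Matrix (Fin n) (Fin n) F) r r = 1 := by
    rw [mul_inv_cancel]
    simp
  rw [Matrix.SpecialLinearGroup.coe_mul, hg.apply_mul] at h1
  exact h1

/-- Conjugation of a transvection by a monomial matrix. -/
theorem IsMon.conj_tv {g : SLG} {π : Equiv.Perm (Fin n)} (hg : IsMon g π) {k l : Fin n} (hkl : k ≠ l) :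
    ∃ b : F, b ≠ 0 ∧ ∀ a : F, g * tv hkl a * g⁻¹ = tv (π.injective.ne hkl) (a * b) := by
  refine ⟨(g : Matrix (Fin n) (Fin n) F) (π k) k * ((g⁻¹ : SLG) : Matrix (Fin n) (Fin n) F) l (π l), ?_, ?_⟩
  · exact mul_ne_zero (hg.ne_zero k) ((hg.inv _ _).2 (by simp))
  · intro a
    apply Subtype.ext
    ext r c
    rw [Matrix.SpecialLinearGroup.coe_mul, Matrix.SpecialLinearGroup.coe_mul, hg.conj_apply, tv_apply, tv_apply]
    have e1 : π⁻¹ r = π⁻¹ c ↔ r = c := π⁻¹.injective.eq_iff
    have e2 : π⁻¹ r = k ↔ r = π k := by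
      rw [Equiv.Perm.inv_eq_iff_eq]
    have e3 : π⁻¹ c = l ↔ c = π l := by
      rw [Equiv.Perm.inv_eq_iff_eq]
    simp only [e1, e2, e3]
    by_cases h1 : r = c
    · subst h1
      by_cases h2 : r = π k ∧ r = π l
      · exfalso
        apply hkl
        exact π.injective (h2.1.symm.trans h2.2)
      · rw [if_pos rfl, if_neg h2, if_neg h2]
        have := hg.diag_mul r
        simp only [add_zero, mul_one, this]
    · by_cases h2 : r = π k ∧ c = π l
      · obtain ⟨rfl, rfl⟩ := h2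
        simp [h1]
        ring
      · simp [h1, h2]

end Cfsg.Agent.Lib.StBlocks.SLBasic
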