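import Cfsg.Agent.Lib.StBlocks.SLSpl
import Cfsg.Agent.Lib.StBlocks.Form

/-!
The coroots and the unipotent radicals of the maximal parabolic subgroups of `SL_n(F)`.
-/

set_option autoImplicit false
set_option linter.unusedSectionVars false
set_option linter.unusedSimpArgs false

namespace Cfsg.Agent.Lib.StBlocks.SLDat

open Matrix Cfsg Cfsg.Agent.Lib.Linalg.AutPSLSylow Cfsg.Agent.Lib.StBlocks.SLBasic
open Cfsg.Agent.Lib.StBlocks.SLPair Cfsg.Agent.Lib.StBlocks.SLSpl
open Cfsg.Agent.Lib.StBlocks.Form Cfsg.Agent.Lib.ModHecke.Core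

variable {m : ℕ} {F : Type*} [Field F] [Fintype F]

local notation "SLG" => Matrix.SpecialLinearGroup (Fin (m + 2)) F
local notation "tv" => Matrix.SpecialLinearGroup.transvection
/-- The torus as a type. -/
abbrev TTq (m : ℕ) (F : Type*) [Field F] [Fintype F] : Type _ := ↥((bn m F).B ⊓ (bn m F).N)

theorem isMon_T (t : (TTq m F)) : IsMon (t : SLG) 1 := by
  have h : (t : SLG) ∈ Hsub (m + 2) F := bn_T (m := m) (F := F) ▸ t.2
  exact h

/-- The coroots. -/
noncomputable def hII (i : Fin (m + 1)) : Fˣ →* (TTq m F) where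
  toFun a := ⟨hE i a, by
    rw [bn_T]
    exact isMon_hE i a.ne_zero⟩
  map_one' := by
    apply Subtype.ext
    apply Subtype.ext
    show ((hE i ((1 : Fˣ) : F) : SLG) : Matrix (Fin (m + 2)) (Fin (m + 2)) F) = 1
    rw [Units.val_one, hE, hh_coe (hi i) one_ne_zero, inv_one, Phi_one (hi i)]
  map_mul' := by
    intro a b
    apply Subtype.ext
    show hE i (((a * b : Fˣ) : Fˣ) : F) = hE i (a : F) * hE i (b : F)
    rw [Units.val_mul]
    exact hh_mul (hi i) a.ne_zero b.ne_zero

theorem hII_coe (i : Fin (m + 1)) (a : Fˣ) : ((hII i a : (TTq m F)) : SLG) = hE i (a : F) := rfl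

theorem hE_diag (i : Fin (m + 1)) {c : F} (hc : c ≠ 0) (r : Fin (m + 2)) :
    ((hE i c : SLG) : Matrix (Fin (m + 2)) (Fin (m + 2)) F) r r =
      if r = i.castSucc then c else if r = i.succ then c⁻¹ else 1 := by
  rw [hE, hh_coe (hi i) hc]
  simp only [Phi, Matrix.of_apply]
  split_ifs <;> simp_all [hi i]

theorem det_diag (t : SLG) (ht : IsMon t 1) :
    ∏ r, (t : Matrix (Fin (m + 2)) (Fin (m + 2)) F) r r = 1 := by
  have h1 : (t : Matrix (Fin (m + 2)) (Fin (m + 2)) F) =
      Matrix.diagonal fun r => (t : Matrix (Fin (m + 2)) (Fin (m + 2)) F) r r := by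
    ext r c
    by_cases hrc : r = c
    · subst hrc
      simp
    · rw [Matrix.diagonal_apply_ne _ hrc]
      by_contra h2
      exact hrc ((ht r c).1 h2)
  have h2 := t.2
  rw [h1, Matrix.det_diagonal] at h2
  exact h2

theorem gen' (A : Subgroup (TTq m F)) (hA : ∀ i a, hII i a ∈ A) : A = ⊤ := by
  have key : ∀ j k : ℕ, k + j = m + 1 → ∀ t : (TTq m F),
      (∀ r : Fin (m + 2), r.val < k → ((t : SLG) : Matrix (Fin (m + 2)) (Fin (m + 2)) F) r r = 1) → t ∈ A := by
    intro j
    induction j with
    | zero =>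
      intro k hk t ht
      have h1 : ∀ r : Fin (m + 1), ((t : SLG) : Matrix (Fin (m + 2)) (Fin (m + 2)) F) r.castSucc r.castSucc = 1 :=
        fun r => ht _ (by simpa [add_zero] using (by omega : r.val < k))
      have h2 := det_diag (t : SLG) (isMon_T t)
      rw [Fin.prod_univ_castSucc] at h2
      simp only [h1, Finset.prod_const_one, one_mul] at h2
      have h3 : t = 1 := by
        apply Subtype.ext
        apply Subtype.ext
        ext r c
        have hd : ((t : SLG) : Matrix (Fin (m + 2)) (Fin (m + 2)) F) r r = 1 := by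
          induction r using Fin.lastCases with
          | last => exact h2
          | cast r => exact h1 r
        by_cases hrc : r = c
        · subst hrc
          simp [hd]
        · have h4 : ((t : SLG) : Matrix (Fin (m + 2)) (Fin (m + 2)) F) r c = 0 := by
            by_contra h5
            exact hrc (((isMon_T t) r c).1 h5)
          simp [h4, Matrix.one_apply, hrc]
      rw [h3]
      exact A.one_mem
    | succ j ih =>
      intro k hk t ht
      have hlt : k < m + 1 := by omega
      let i : Fin (m + 1) := ⟨k, hlt⟩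
      have ha : ((t : SLG) : Matrix (Fin (m + 2)) (Fin (m + 2)) F) i.castSucc i.castSucc ≠ 0 :=
        (isMon_T t).ne_zero i.castSucc
      let u : Fˣ := Units.mk0 _ ha
      have h1 : t * hII i u⁻¹ ∈ A := by
        refine ih (k + 1) (by omega) _ ?_
        intro r hr
        have e1 : (((t * hII i u⁻¹ : (TTq m F)) : SLG) : Matrix (Fin (m + 2)) (Fin (m + 2)) F) =
            (t : SLG).1 * (hE i ((u⁻¹ : Fˣ) : F) : SLG).1 := rfl
        rw [e1, IsMon.mul_apply (isMon_hE i (u⁻¹).ne_zero)]
        simp only [Equiv.Perm.one_apply]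
        rw [hE_diag i (u⁻¹).ne_zero]
        by_cases h2 : r = i.castSucc
        · subst h2
          rw [if_pos rfl]
          have : (((u⁻¹ : Fˣ)) : F) = (u : F)⁻¹ := Units.val_inv_eq_inv_val u
          rw [this]
          exact mul_inv_cancel₀ ha
        · have h3 : r ≠ i.succ := by
            intro h3
            have := congrArg Fin.val h3
            simp only [Fin.val_succ, i] at this
            omega
          have h4 : r.val < k := by
            have h5 : r.val ≠ k := fun h5 => h2 (Fin.ext (by simpa [i] using h5))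
            omega
          rw [if_neg h2, if_neg h3, mul_one]
          exact ht r h4
      have h2 := A.mul_mem h1 (hA i u)
      rwa [mul_assoc, ← map_mul, inv_mul_cancel, map_one, mul_one] at h2
  rw [eq_top_iff]
  intro t _
  exact key (m + 1) 0 (by omega) t (fun r hr => absurd hr (by omega))

/-! ### The radical of a maximal parabolic subgroup -/

/-- The block form of an element of the radical. -/
def InR (j : Fin (m + 1)) (g : SLG) : Prop :=
  (∀ r, (g : Matrix (Fin (m + 2)) (Fin (m + 2)) F) r r = 1) ∧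
    ∀ r c, r ≠ c → (g : Matrix (Fin (m + 2)) (Fin (m + 2)) F) r c ≠ 0 → r.val ≤ j.val ∧ j.val < c.val

theorem InR.mul {j : Fin (m + 1)} {a b : SLG} (ha : InR j a) (hb : InR j b) : InR j (a * b) := by
  constructor
  · intro r
    rw [Matrix.SpecialLinearGroup.coe_mul, Matrix.mul_apply, Finset.sum_eq_single r]
    · rw [ha.1, hb.1, one_mul]
    · intro k _ hk
      by_contra h
      have h1 := ha.2 r k hk.symm (left_ne_zero_of_mul h)
      have h2 := hb.2 k r hk (right_ne_zero_of_mul h)
      omega
    · simp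
  · intro r c hrc h
    rw [Matrix.SpecialLinearGroup.coe_mul, Matrix.mul_apply] at h
    obtain ⟨k, -, hk⟩ := Finset.exists_ne_zero_of_sum_ne_zero h
    by_cases h1 : k = r
    · subst h1
      exact hb.2 _ _ hrc (right_ne_zero_of_mul hk)
    · by_cases h2 : k = c
      · subst h2
        exact ha.2 _ _ hrc (left_ne_zero_of_mul hk)
      · have h3 := ha.2 r k (Ne.symm h1) (left_ne_zero_of_mul hk)
        have h4 := hb.2 k c h2 (right_ne_zero_of_mul hk)
        omega

theorem InR.one (j : Fin (m + 1)) : InR j (1 : SLG) := by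
  constructor
  · intro r
    simp
  · intro r c hrc h
    exact absurd (by simp [Matrix.one_apply, hrc]) h

variable (F) in
/-- The radical as a submonoid. -/
def Rm (j : Fin (m + 1)) : Submonoid SLG where
  carrier := {g | InR j g}
  mul_mem' := InR.mul
  one_mem' := InR.one j

variable (F) in
/-- The radical. -/
def Rg (j : Fin (m + 1)) : Subgroup SLG where
  carrier := {g | InR j g}
  mul_mem' := InR.mul
  one_mem' := InR.one j
  inv_mem' := fun hs => inv_mem_of_finite (Rm F j) hs

theorem mem_Rg {j : Fin (m + 1)} {g : SLG} : g ∈ Rg F j ↔ InR j g := Iff.rfl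

theorem InR.isUT {j : Fin (m + 1)} {g : SLG} (hg : InR j g) : IsUT g := by
  constructor
  · intro r c hc
    by_contra h
    have := hg.2 r c (ne_of_gt hc) h
    have h2 : c.val < r.val := hc
    omega
  · exact hg.1

theorem InR.conj {j : Fin (m + 1)} {g r : SLG} {π : Equiv.Perm (Fin (m + 2))} (hg : IsMon g π)
    (hπ : ∀ x : Fin (m + 2), (π⁻¹ x).val ≤ j.val ↔ x.val ≤ j.val) (hr : InR j r) :
    InR j (g * r * g⁻¹) := by
  constructor
  · intro a
    rw [Matrix.SpecialLinearGroup.coe_mul, Matrix.SpecialLinearGroup.coe_mul, hg.conj_apply, hr.1, mul_one]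
    exact hg.diag_mul a
  · intro a c hac h
    rw [Matrix.SpecialLinearGroup.coe_mul, Matrix.SpecialLinearGroup.coe_mul, hg.conj_apply] at h
    have h1 := right_ne_zero_of_mul (left_ne_zero_of_mul h)
    have h2 := hr.2 _ _ (π⁻¹.injective.ne hac) h1
    have h3 := (hπ a).1 h2.1
    have h4 : ¬ (π⁻¹ c).val ≤ j.val := by omega
    have h5 : ¬ c.val ≤ j.val := fun h6 => h4 ((hπ c).2 h6)
    exact ⟨h3, by omega⟩

theorem sw_le {i j : Fin (m + 1)} (hij : i ≠ j) (x : Fin (m + 2)) :
    (sw i x).val ≤ j.val ↔ x.val ≤ j.val := by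
  have h0 : i.val ≠ j.val := fun h => hij (Fin.ext h)
  simp only [sw, Equiv.swap_apply_def]
  split_ifs with h1 h2
  · subst h1
    simp only [Fin.val_castSucc, Fin.val_succ]
    omega
  · subst h2
    simp only [Fin.val_castSucc, Fin.val_succ]
    omega
  · rfl

theorem tv_mem_Rg {j : Fin (m + 1)} {a b : Fin (m + 2)} (ha : a.val ≤ j.val) (hb : j.val < b.val) (hab : a ≠ b)
    (c : F) : (tv hab c : SLG) ∈ Rg F j := by
  constructor
  · intro r
    rw [tv_apply]
    have h2 : ¬ (r = a ∧ r = b) := by
      rintro ⟨rfl, h3⟩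
      exact hab h3
    simp [h2]
  · intro r k hrk h
    rw [tv_apply] at h
    by_cases h2 : r = a ∧ k = b
    · obtain ⟨rfl, rfl⟩ := h2
      exact ⟨ha, hb⟩
    · simp [hrk, h2] at h

/-- The centralizer of the radical. -/
theorem BT' (j : Fin (m + 1)) (x : SLG) (hx : ∀ r ∈ Rg F j, x * r = r * x) :
    ∃ z ∈ Hsub (m + 2) F, z ∈ Subgroup.center SLG ∧ z⁻¹ * x ∈ USL (m + 2) F := by
  have hcomm : ∀ a b : Fin (m + 2), a.val ≤ j.val → j.val < b.val →
      ((x : Matrix (Fin (m + 2)) (Fin (m + 2)) F) * Matrix.transvection a b 1 =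
        Matrix.transvection a b 1 * (x : Matrix (Fin (m + 2)) (Fin (m + 2)) F)) := by
    intro a b ha hb
    have hab : a ≠ b := fun h => by subst h; omega
    have h1 := hx _ (tv_mem_Rg ha hb hab 1)
    have h2 := congrArg (fun g : SLG => (g : Matrix (Fin (m + 2)) (Fin (m + 2)) F)) h1
    simp only [Matrix.SpecialLinearGroup.coe_mul] at h2
    exact h2
  have h1 : ∀ a b r : Fin (m + 2), a.val ≤ j.val → j.val < b.val → r ≠ a →
      (x : Matrix (Fin (m + 2)) (Fin (m + 2)) F) r a = 0 := by
    intro a b r ha hb hra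
    have hab : a ≠ b := fun h => by subst h; omega
    have h2 := congrFun (congrFun (hcomm a b ha hb) r) b
    rw [Matrix.mul_transvection_apply_same, Matrix.transvection_mul_apply_of_ne _ _ _ _ hra] at h2
    simpa using h2
  have h2 : ∀ a b c : Fin (m + 2), a.val ≤ j.val → j.val < b.val → c ≠ b →
      (x : Matrix (Fin (m + 2)) (Fin (m + 2)) F) b c = 0 := by
    intro a b c ha hb hcb
    have hab : a ≠ b := fun h => by subst h; omega
    have h3 := congrFun (congrFun (hcomm a b ha hb) a) c
    rw [Matrix.mul_transvection_apply_of_ne _ _ _ _ hcb, Matrix.transvection_mul_apply_same] at h3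
    simpa using h3
  have h3 : ∀ a b : Fin (m + 2), a.val ≤ j.val → j.val < b.val →
      (x : Matrix (Fin (m + 2)) (Fin (m + 2)) F) a a = (x : Matrix (Fin (m + 2)) (Fin (m + 2)) F) b b := by
    intro a b ha hb
    have hab : a ≠ b := fun h => by subst h; omega
    have h3 := congrFun (congrFun (hcomm a b ha hb) a) b
    rw [Matrix.mul_transvection_apply_same, Matrix.transvection_mul_apply_same] at h3
    simp only [one_mul] at h3
    exact (add_left_cancel h3).symm ▸ rfl
  have hj1 : (j.castSucc).val ≤ j.val := by simp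
  have hj2 : j.val < (j.succ).val := by simp
  set z := (x : Matrix (Fin (m + 2)) (Fin (m + 2)) F) j.succ j.succ with hz
  have hdiag : ∀ r, (x : Matrix (Fin (m + 2)) (Fin (m + 2)) F) r r = z := by
    intro r
    by_cases hr : r.val ≤ j.val
    · exact h3 _ _ hr hj2
    · rw [hz, ← h3 _ _ hj1 hj2, ← h3 _ _ hj1 (not_le.1 hr)]
  have hlow : ∀ r c : Fin (m + 2), c < r → (x : Matrix (Fin (m + 2)) (Fin (m + 2)) F) r c = 0 := by
    intro r c hc
    have hc' : c.val < r.val := hc
    by_cases h4 : c.val ≤ j.val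
    · exact h1 c j.succ r h4 hj2 (ne_of_gt hc)
    · exact h2 j.castSucc r c hj1 (by omega) (ne_of_lt hc)
  have hdet : z ^ (m + 2) = 1 := by
    have h4 : ((x : Matrix (Fin (m + 2)) (Fin (m + 2)) F)).det = 1 := x.2
    rw [Matrix.det_of_isUpperTriangular hlow] at h4
    simpa [hdiag] using h4
  have hz0 : z ≠ 0 := by
    intro h
    rw [h] at hdet
    simp at hdet
  let ζ : SLG := ⟨Matrix.scalar _ z, by
    rw [Matrix.scalar_apply, Matrix.det_diagonal]
    simpa using hdet⟩
  have hζ : ∀ r c, (ζ : Matrix (Fin (m + 2)) (Fin (m + 2)) F) r c = if r = c then z else 0 := by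
    intro r c
    show (Matrix.scalar _ z : Matrix (Fin (m + 2)) (Fin (m + 2)) F) r c = _
    rw [Matrix.scalar_apply, Matrix.diagonal_apply]
  have hζT : IsMon ζ 1 := by
    intro r c
    rw [hζ]
    simp only [Equiv.Perm.one_apply]
    constructor
    · intro h
      by_contra h2
      simp [h2] at h
    · rintro rfl
      simpa using hz0
  refine ⟨ζ, hζT, ?_, ?_⟩
  · rw [Matrix.SpecialLinearGroup.mem_center_iff]
    exact ⟨z, by simpa using hdet, rfl⟩
  · have hx2 : ∀ r c, (x : Matrix (Fin (m + 2)) (Fin (m + 2)) F) r c =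
        z * ((ζ⁻¹ * x : SLG) : Matrix (Fin (m + 2)) (Fin (m + 2)) F) r c := by
      intro r c
      have h4 : x = ζ * (ζ⁻¹ * x) := by group
      conv_lhs => rw [h4]
      rw [Matrix.SpecialLinearGroup.coe_mul, hζT.apply_mul]
      simp [hζ]
    constructor
    · intro r c hc
      have h4 := hx2 r c
      rw [hlow r c hc] at h4
      exact (mul_eq_zero.1 h4.symm).resolve_left hz0
    · intro r
      have h4 := hx2 r r
      rw [hdiag] at h4
      have h5 : z * 1 = z * ((ζ⁻¹ * x : SLG) : Matrix (Fin (m + 2)) (Fin (m + 2)) F) r r := by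
        rw [mul_one]
        exact h4
      exact (mul_left_cancel₀ hz0 h5).symm

variable (m F) in
/-- The data for `SL_n(F)`. -/
noncomputable def dat (p : ℕ) [Fact p.Prime] [CharP F p] : Dat (spl m F p) where
  hI := hII
  hI_coe := hII_coe
  gen := gen'
  R := Rg F
  R_le := fun j r hr => InR.isUT hr
  R_e := by
    intro j i hij r hr
    have h1 := InR.conj (isMon_eE (F := F) i).inv (j := j) (fun x => by
      rw [inv_inv]
      exact sw_le hij x) hr
    rw [inv_inv] at h1
    exact h1
  R_t := by
    intro j t ht r hr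
    rw [bn_T] at ht
    have h1 := InR.conj (IsMon.inv ht) (j := j) (fun x => by simp) hr
    rw [inv_inv] at h1
    exact h1
  BT := by
    intro j x hx
    obtain ⟨z, hz, hz2, hz3⟩ := BT' j x hx
    exact ⟨z, by rw [bn_T]; exact hz, hz2, hz3⟩

end Cfsg.Agent.Lib.StBlocks.SLDat
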