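import Cfsg.Agent.Lib.StBlocks.Count
import Cfsg.Agent.Lib.StChar.Inner

/-!
The degree of the Steinberg character of a group with a split `(B,N)`-pair and the resulting block theorem.
-/

set_option autoImplicit false
set_option linter.unusedSectionVars false

namespace Cfsg.Agent.Lib.StBlocks.Stein

open Cfsg Cfsg.Agent.Lib.ModHecke.Core Cfsg.Agent.Lib.StBlocks.Form Cfsg.Agent.Lib.StBlocks.Count
open Cfsg.Agent.Lib.BNPair.Basic Cfsg.Agent.Lib.ChevOrder.BNCount Cfsg.Agent.Lib.StChar.Inner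
open Cfsg.Agent.Lib.StChar.Gate Cfsg.Agent.Lib.ModHecke.Frob
open scoped Classical

universe u

variable {G : Type u} [Group G] [Fintype G] {P : Cfsg.BNPair G} {p : ℕ} {F : Type*} [Field F] [Fintype F]
  {ι : Type*} [Fintype ι] [DecidableEq ι] (S : Spl P p F ι)

/-- The value at one of the Steinberg character. -/
theorem stChar_one (n : P.N)
    (htop : ∀ i, LL P ((QuotientGroup.mk n : WW P) * ff S.e S.he i) < LL P (QuotientGroup.mk n))
    (hT : ∀ x ∈ P.B, (n : G)⁻¹ * x * n ∈ P.B → x ∈ P.B ⊓ P.N) :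
    stChar P S.e 1 = (Nat.card S.U : ℂ) := by
  rw [stChar_apply (setupS S) P.B.one_mem htop]
  congr 1
  let Φ : S.U → {C : G ⧸ P.B // cellQ P C = QuotientGroup.mk n ∧ (1 : G) • C = C} := fun u =>
    ⟨QuotientGroup.mk ((u : G) * (n : G)), by
      rw [cellQ_mk, cell_eq_iff]
      exact mem_C.2 ⟨u, S.U_le u.2, 1, P.B.one_mem, by simp⟩, one_smul _ _⟩
  have hΦ : Function.Bijective Φ := by
    constructor
    · intro u u' he
      have h1 := congrArg (fun z => z.1) he
      simp only [Φ] at h1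
      rw [QuotientGroup.eq] at h1
      have e : ((u : G) * (n : G))⁻¹ * ((u' : G) * (n : G)) = (n : G)⁻¹ * ((u : G)⁻¹ * u') * n := by group
      rw [e] at h1
      have hB : (u : G)⁻¹ * u' ∈ P.B := S.U_le (S.U.mul_mem (S.U.inv_mem u.2) u'.2)
      have h2 := hT _ hB h1
      have h3 := torus_inf_U S h2 (S.U.mul_mem (S.U.inv_mem u.2) u'.2)
      exact Subtype.ext (inv_mul_eq_one.1 h3)
    · rintro ⟨C, hC, -⟩
      obtain ⟨x, rfl⟩ := QuotientGroup.mk_surjective C
      rw [cellQ_mk, cell_eq_iff] at hC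
      obtain ⟨b, hb, b', hb', rfl⟩ := mem_C.1 hC
      obtain ⟨u, hu, t, ht, rfl⟩ := S.B_dec b hb
      refine ⟨⟨u, hu⟩, Subtype.ext ?_⟩
      simp only [Φ]
      rw [QuotientGroup.eq]
      have e : ((u : G) * (n : G))⁻¹ * (u * t * (n : G) * b') = ((n : G)⁻¹ * t * n) * b' := by group
      rw [e]
      exact P.B.mul_mem (conj_inv_B n.2 ht.1 ht.2) hb'
  exact (Nat.card_congr (Equiv.ofBijective Φ hΦ)).symm

/-- The `p`-part of the order. -/
theorem pow_fact : p ^ (Nat.card G).factorization p = Nat.card S.U := by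
  have : Fact p.Prime := ⟨S.hp⟩
  obtain ⟨k, hk⟩ := IsPGroup.iff_card.1 S.hU
  have h1 := S.U.card_mul_index
  have h2 := not_dvd_index S
  have h3 : 0 < S.U.index := Nat.pos_of_ne_zero fun h => h2 (h ▸ dvd_zero p)
  rw [hk, ← h1, Nat.factorization_mul Nat.card_pos.ne' h3.ne', Finsupp.add_apply, hk,
    S.hp.factorization_pow, Nat.factorization_eq_zero_of_not_dvd h2]
  simp

variable {M : Ideal AlgInt} [hMp : M.IsPrime]

/-- The Steinberg character as an irreducible character. -/
noncomputable def stIrr : IrrCharacter G := ⟨stChar P S.e, stChar_isIrr (setupS S)⟩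

/-- **The blocks of a group with a split `(B,N)`-pair.** -/
theorem blocks_split [Nonempty ι] (D : Dat S) (hM : IsPModular p M) (n : P.N)
    (htop : ∀ i, LL P ((QuotientGroup.mk n : WW P) * ff S.e S.he i) < LL P (QuotientGroup.mk n))
    (hT : ∀ x ∈ P.B, (n : G)⁻¹ * x * n ∈ P.B → x ∈ P.B ⊓ P.N) (hv : p ∣ Nat.card G) :
    Nat.card {B : Set (IrrCharacter G) // IsPBlock M B} = Nat.card ↥(Zz P) + 1 ∧
    Nat.card {B : Set (IrrCharacter G) // IsPBlock M B ∧ blockDefect p B = 0} = 1 ∧
    ∀ B : Set (IrrCharacter G), IsPBlock M B → blockDefect p B = 0 ∨ blockDefect p B = (Nat.card G).factorization p := by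
  have hdeg : charDegree ((stIrr S : IrrCharacter G) : G → ℂ) = p ^ (Nat.card G).factorization p := by
    have h1 := degree_eq (stIrr S)
    have h2 : ((stIrr S : IrrCharacter G) : G → ℂ) 1 = (Nat.card S.U : ℂ) := stChar_one S n htop hT
    rw [h2] at h1
    rw [pow_fact S]
    exact_mod_cast h1.symm
  obtain ⟨h1, h2, h3⟩ := blocks_main S D hM (stIrr S) (by rw [hdeg]) hv
  have hvpos : 0 < (Nat.card G).factorization p :=
    hM.1.factorization_pos_of_dvd (Nat.card_pos (α := G)).ne' hv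
  have hdef0 : blockDefect p ({stIrr S} : Set (IrrCharacter G)) = 0 := by
    rw [blockDefect, Set.image_singleton, csInf_singleton, hdeg, hM.1.factorization_pow]
    simp
  have hdef1 : ∀ B : Set (IrrCharacter G), (∃ χ ∈ B, ¬ p ∣ charDegree (χ : G → ℂ)) →
      blockDefect p B = (Nat.card G).factorization p := by
    rintro B ⟨χ, hχ, hnd⟩
    rw [blockDefect]
    have h4 : sInf ((fun χ : IrrCharacter G => (charDegree (χ : G → ℂ)).factorization p) '' B) = 0 := by
      apply Nat.sInf_eq_zero.2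
      left
      exact ⟨χ, hχ, Nat.factorization_eq_zero_of_not_dvd hnd⟩
    rw [h4, Nat.sub_zero]
  refine ⟨h1, ?_, ?_⟩
  · rw [Nat.card_eq_one_iff_unique]
    refine ⟨⟨?_⟩, ⟨⟨{stIrr S}, h2, hdef0⟩⟩⟩
    rintro ⟨B, hB, hB0⟩ ⟨B', hB', hB0'⟩
    have key : ∀ B : Set (IrrCharacter G), IsPBlock M B → blockDefect p B = 0 → B = {stIrr S} := by
      intro B hB hB0
      rcases h3 B hB with h | h
      · exact h
      · have := hdef1 B h
        omega
    exact Subtype.ext ((key B hB hB0).trans (key B' hB' hB0').symm)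
  · intro B hB
    rcases h3 B hB with h | h
    · left
      rw [h]
      exact hdef0
    · right
      exact hdef1 B h

end Cfsg.Agent.Lib.StBlocks.Stein
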