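import Cfsg.Agent.Lib.StBlocks.SLDat
import Cfsg.Agent.Lib.StBlocks.Stein

/-!
The `p`-blocks of `SL_n(F)` in the defining characteristic.
-/

set_option autoImplicit false
set_option linter.unusedSectionVars false
set_option linter.unusedSimpArgs false

namespace Cfsg.Agent.Lib.StBlocks.SLMain

open Matrix Cfsg Cfsg.Agent.Lib.Linalg.AutPSLSylow Cfsg.Agent.Lib.StBlocks.SLBasic
open Cfsg.Agent.Lib.StBlocks.SLPair Cfsg.Agent.Lib.StBlocks.SLSpl Cfsg.Agent.Lib.StBlocks.SLDat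
open Cfsg.Agent.Lib.StBlocks.Form Cfsg.Agent.Lib.ModHecke.Core Cfsg.Agent.Lib.StBlocks.Count
open Cfsg.Agent.Lib.BNPair.Basic Cfsg.Agent.Lib.ChevOrder.BNCount Cfsg.Agent.Lib.ModHecke.Frob
open Cfsg.Agent.Lib.StChar.Cox

variable {m : ℕ} {F : Type*} [Field F] [Fintype F] (p : ℕ) [hp : Fact p.Prime] [CharP F p]

local notation "SLG" => Matrix.SpecialLinearGroup (Fin (m + 2)) F
local notation "tv" => Matrix.SpecialLinearGroup.transvection

theorem conj_x_mem {n : SLG} {π : Equiv.Perm (Fin (m + 2))} (hπ : IsMon n π) {i : Fin (m + 1)}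
    (h : π⁻¹ i.castSucc < π⁻¹ i.succ) (a : F) : n⁻¹ * xx i a * n ∈ USL (m + 2) F := by
  obtain ⟨b, -, hb⟩ := IsMon.conj_tv hπ.inv (hi i)
  have h1 := hb a
  rw [inv_inv] at h1
  rw [xx, h1]
  exact isUT_tv h _

theorem strictAnti_of_top {n : SLG} {π : Equiv.Perm (Fin (m + 2))} (hπ : IsMon n π)
    (htop : ∀ i : Fin (m + 1), len (bn m F) (eE i * n) < len (bn m F) n) : StrictAnti (π⁻¹ : Equiv.Perm (Fin (m + 2))) := by
  rw [Fin.strictAnti_iff_succ_lt]
  intro i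
  by_contra hcon
  have hne : π⁻¹ i.castSucc ≠ π⁻¹ i.succ := π⁻¹.injective.ne (hi i)
  have h1 : π⁻¹ i.castSucc < π⁻¹ i.succ := lt_of_le_of_ne (not_lt.1 hcon) hne
  have hs : eE i ∈ (bn m F).S := ⟨i, rfl⟩
  have h2 := len_lt_of_conj hs (⟨π, hπ⟩ : n ∈ (bn m F).N)
    (Subgroup.mem_sup_left (isUT_tv Fin.castSucc_lt_succ (1 : F)) : xx i 1 ∈ (bn m F).B) (not_B_conj i)
    (Subgroup.mem_sup_left (conj_x_mem hπ h1 1))
  have h3 := htop i
  omega

theorem mem_T_of_anti {n : SLG} {π : Equiv.Perm (Fin (m + 2))} (hπ : IsMon n π)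
    (hanti : StrictAnti (π⁻¹ : Equiv.Perm (Fin (m + 2)))) {x : SLG} (hx : x ∈ (bn m F).B)
    (hy : n⁻¹ * x * n ∈ (bn m F).B) : x ∈ (bn m F).B ⊓ (bn m F).N := by
  rw [bn_T]
  intro r c
  simp only [Equiv.Perm.one_apply]
  constructor
  · intro h
    by_contra hrc
    rcases lt_or_gt_of_ne hrc with h1 | h1
    · -- `r < c`
      have h2 := hanti h1
      have h3 := up_of_mem hy h2
      have h4 : n⁻¹ * x * n = n⁻¹ * x * (n⁻¹)⁻¹ := by rw [inv_inv]
      rw [h4, Matrix.SpecialLinearGroup.coe_mul, Matrix.SpecialLinearGroup.coe_mul, hπ.inv.conj_apply] at h3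
      have h5 := hπ.inv.ne_zero' (π⁻¹ r)
      have h6 : ((n⁻¹)⁻¹ : SLG).1 ((π⁻¹)⁻¹ (π⁻¹ c)) (π⁻¹ c) ≠ 0 := (hπ.inv.inv _ _).2 (by simp)
      have e1 : ∀ z, π (π⁻¹ z) = z := fun z => π.apply_symm_apply z
      simp only [inv_inv, e1] at h3 h5 h6
      exact mul_ne_zero (mul_ne_zero h5 h) h6 h3
    · exact h (up_of_mem hx h1)
  · rintro rfl
    obtain ⟨u, hu, h, hh, rfl⟩ := (core (m := m) (F := F)).mem_B_iff.1 hx
    rw [Matrix.SpecialLinearGroup.coe_mul, IsMon.mul_apply hh]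
    simp only [Equiv.Perm.one_apply]
    rw [hu.2, one_mul]
    exact (hh r r).2 rfl

theorem hv : p ∣ Nat.card SLG := by
  obtain ⟨a, ha⟩ := IsPGroup.iff_orderOf.1 (spl m F p).hU ⟨xx 0 1, isUT_tv Fin.castSucc_lt_succ 1⟩
  have h1 : (xx (0 : Fin (m + 1)) 1 : SLG) ≠ 1 := by
    intro h
    have h2 := congrArg (fun g : SLG => (g : Matrix (Fin (m + 2)) (Fin (m + 2)) F) (0 : Fin (m + 1)).castSucc (0 : Fin (m + 1)).succ) h
    simp only [xx] at h2
    rw [tv_apply] at h2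
    simp [hi] at h2
  have ha0 : a ≠ 0 := by
    rintro rfl
    rw [pow_zero, orderOf_eq_one_iff] at ha
    exact h1 (congrArg Subtype.val ha)
  have h3 : p ∣ orderOf (xx (0 : Fin (m + 1)) 1 : SLG) := by
    have h4 : orderOf (xx (0 : Fin (m + 1)) 1 : SLG) = p ^ a := by
      rw [← ha]
      exact (Subgroup.orderOf_mk _ _).symm
    rw [h4]
    exact dvd_pow_self p ha0
  exact h3.trans (orderOf_dvd_natCard _)

variable {p}

/-- **The blocks of `SL_n(F)`**. -/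
theorem blocks_SL {M : Ideal AlgInt} (hM : IsPModular p M) :
    Nat.card {B : Set (IrrCharacter SLG) // IsPBlock M B} = Nat.card ↥(Zz (bn m F)) + 1 ∧
    Nat.card {B : Set (IrrCharacter SLG) // IsPBlock M B ∧ blockDefect p B = 0} = 1 ∧
    ∀ B : Set (IrrCharacter SLG), IsPBlock M B → blockDefect p B = 0 ∨ blockDefect p B = (Nat.card SLG).factorization p := by
  classical
  have _ : Fintype SLG := Fintype.ofFinite _
  have _ : M.IsPrime := hM.2.1.isPrime
  have hs := setupS (spl m F p)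
  obtain ⟨y, -, h1, h2⟩ := exists_top hs (Set.univ : Set (Fin (m + 1)))
  obtain ⟨n, rfl⟩ := QuotientGroup.mk_surjective y
  obtain ⟨π, hπ⟩ := n.2
  have hanti := strictAnti_of_top hπ (fun i => by
    have h3 := h1 i (Set.mem_univ _)
    rw [ff_mk_mul, LL_mk, LL_mk] at h3
    exact h3)
  exact Cfsg.Agent.Lib.StBlocks.Stein.blocks_split (spl m F p) (dat m F p) hM n (fun i => h2 i (Set.mem_univ _))
    (fun x hx hy => mem_T_of_anti hπ hanti hx hy) (hv p)

omit hp [CharP F p] in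
theorem Zz_eq : Zz (bn m F) = Subgroup.center SLG := by
  apply le_antisymm inf_le_right
  intro z hz
  refine ⟨?_, hz⟩
  rw [bn_T]
  obtain ⟨r, hr, hz'⟩ := Matrix.SpecialLinearGroup.mem_center_iff.1 hz
  have hr0 : r ≠ 0 := by
    rintro rfl
    simp at hr
  intro a c
  rw [← hz', Matrix.scalar_apply, Matrix.diagonal_apply]
  simp only [Equiv.Perm.one_apply]
  split_ifs with h
  · simpa [h] using hr0
  · simpa using h

omit hp [CharP F p] in
theorem card_Zz : Nat.card ↥(Zz (bn m F)) = (Nat.card Fˣ).gcd (m + 2) := by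
  rw [Zz_eq, Nat.card_congr (Matrix.SpecialLinearGroup.center_equiv_rootsOfUnity (n := Fin (m + 2)) (R := F)).toEquiv]
  have h1 : max (Fintype.card (Fin (m + 2))) 1 = m + 2 := by simp
  rw [h1, ← IsCyclic.card_powMonoidHom_ker (G := Fˣ) (m + 2)]
  rfl

end Cfsg.Agent.Lib.StBlocks.SLMain
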