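import Cfsg.Agent.Lib.StBlocks.SLPair
import Cfsg.Agent.Lib.ModHecke.Core
import Cfsg.Agent.Lib.Linalg.Transvection

/-!
The split `(B,N)`-pair of `SL_n(F)`.
-/

set_option autoImplicit false
set_option linter.unusedSectionVars false
set_option linter.unusedSimpArgs false

namespace Cfsg.Agent.Lib.StBlocks.SLSpl

open Matrix Cfsg Cfsg.Agent.Lib.Linalg.AutPSLSylow Cfsg.Agent.Lib.StBlocks.SLBasic
open Cfsg.Agent.Lib.StBlocks.SLPair
open Cfsg.Agent.Lib.ChevBN.Core Cfsg.Agent.Lib.ModHecke.Core Cfsg.Agent.Lib.BNPair.Basic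
open Cfsg.Agent.Lib.ChevOrder.BNCount

section Gen

variable {A : Type*} [Group A]

/-- The pair on the ambient group. -/
def toBN (R : RootCore A) (hG : (R.U ⊔ R.H) ⊔ R.N = ⊤) : BNPair A where
  B := R.U ⊔ R.H
  N := R.N
  S := R.S
  sup_eq_top := hG
  conj_mem := by
    intro n hn t ht
    rw [R.BN_inf] at ht
    exact R.H_le_B (R.H_norm_N _ hn _ ht)
  subset := R.S_sub
  sq_mem := fun s hs => R.H_le_B (R.S_sq _ hs)
  inj := by
    intro s hs s' hs' h
    refine R.S_inj _ hs _ hs' ?_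
    rw [← R.BN_inf]
    exact ⟨h, R.N.mul_mem (R.N.inv_mem (R.S_sub hs)) (R.S_sub hs')⟩
  closure_sup := by
    rw [R.BN_inf]
    exact R.S_gen
  mul_mem_union := by
    intro s hs n hn b hb
    rcases R.mul_mem_aux hs hn hb with ⟨b₁, hb₁, b₂, hb₂, e⟩ | ⟨b₁, hb₁, b₂, hb₂, e⟩
    · left
      exact DoubleCoset.mem_doubleCoset.mpr ⟨b₁, hb₁, b₂, hb₂, e⟩
    · right
      exact DoubleCoset.mem_doubleCoset.mpr ⟨b₁, hb₁, b₂, hb₂, e⟩
  conj_ne := by
    intro s hs himg
    obtain ⟨x, hx, hnot⟩ := R.conj_ne _ hs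
    have hxB : x ∈ R.U ⊔ R.H := R.U_le_B (R.X_le _ hs hx)
    have hmem : s * x * s ∈ ((R.U ⊔ R.H : Subgroup A) : Set A) := by
      rw [← himg]
      exact ⟨x, hxB, rfl⟩
    apply hnot
    have hsq : s * s ∈ R.U ⊔ R.H := R.H_le_B (R.S_sq _ hs)
    have e : s * x * s⁻¹ = (s * x * s) * (s * s)⁻¹ := by group
    rw [e]
    exact Subgroup.mul_mem _ hmem (Subgroup.inv_mem _ hsq)

end Gen

variable {m : ℕ} {F : Type*} [Field F] [Fintype F]

local notation "SLG" => Matrix.SpecialLinearGroup (Fin (m + 2)) F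
local notation "tv" => Matrix.SpecialLinearGroup.transvection

theorem tv_congr {n : ℕ} {k k' l l' : Fin n} (hk : k = k') (hl : l = l') (h : k ≠ l) (h' : k' ≠ l') (c : F) :
    tv h c = tv h' c := by
  subst hk hl
  rfl

theorem hG_top : (USL (m + 2) F ⊔ Hsub (m + 2) F) ⊔ Nsub (m + 2) F = (⊤ : Subgroup SLG) := by
  rw [eq_top_iff, ← Cfsg.Agent.Lib.Linalg.Transvection.closure_transvections (ι := Fin (m + 2)) (F := F),
    Subgroup.closure_le]
  rintro _ ⟨k, l, hkl, a, rfl⟩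
  rcases lt_or_gt_of_ne hkl with h | h
  · exact Subgroup.mem_sup_left (Subgroup.mem_sup_left (isUT_tv h a))
  · obtain ⟨g, -, hg⟩ := exists_perm (F := F) (Equiv.swap k l)
    obtain ⟨b, hb0, hb⟩ := IsMon.conj_tv hg hkl.symm
    have h1 := hb (a * b⁻¹)
    have e1 : a * b⁻¹ * b = a := by field_simp
    have h3 : ∀ (h' : (Equiv.swap k l) l ≠ (Equiv.swap k l) k) (c : F), tv h' c = tv hkl c :=
      fun h' c => tv_congr (by simp) (by simp) h' hkl c
    rw [e1, h3] at h1
    rw [SetLike.mem_coe, ← h1]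
    have hgN : g ∈ Nsub (m + 2) F := ⟨_, hg⟩
    exact Subgroup.mul_mem _ (Subgroup.mul_mem _ (Subgroup.mem_sup_right hgN)
      (Subgroup.mem_sup_left (Subgroup.mem_sup_left (isUT_tv h _))))
      (Subgroup.mem_sup_right (Subgroup.inv_mem _ hgN))

variable (m F) in
/-- The `(B,N)`-pair. -/
noncomputable def bn : BNPair SLG := toBN core hG_top

theorem bn_B : (bn m F).B = USL (m + 2) F ⊔ Hsub (m + 2) F := rfl
theorem bn_N : (bn m F).N = Nsub (m + 2) F := rfl
theorem bn_S : (bn m F).S = Set.range (eE : Fin (m + 1) → SLG) := rfl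

theorem bn_T : (bn m F).B ⊓ (bn m F).N = Hsub (m + 2) F := (core (m := m) (F := F)).BN_inf

theorem eE_inv_conj {i : Fin (m + 1)} {u : SLG} (hu : u ∈ Yg i) : (eE i)⁻¹ * u * eE i ∈ USL (m + 2) F := by
  obtain ⟨hu1, hu0⟩ := hu
  have hg := (isMon_eE (F := F) i).inv
  have key : ∀ r c, c < r → (u : Matrix (Fin (m + 2)) (Fin (m + 2)) F) ((sw i)⁻¹⁻¹ r) ((sw i)⁻¹⁻¹ c) = 0 := by
    intro r c hc
    rw [inv_inv]
    by_cases h : c = i.castSucc ∧ r = i.succ
    · obtain ⟨rfl, rfl⟩ := h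
      simp only [sw, Equiv.swap_apply_left, Equiv.swap_apply_right]
      exact hu0
    · exact hu1.1 _ _ (sw_lt i hc h)
  have := conj_mem_USL hg hu1 key
  rwa [inv_inv] at this

/-- The diagonal of a torus element. -/
noncomputable def dg (n : ℕ) (F : Type*) [Field F] [Fintype F] : Hsub n F →* (Fin n → F) where
  toFun t r := (t : Matrix.SpecialLinearGroup (Fin n) F).1 r r
  map_one' := by
    funext r
    simp
  map_mul' := by
    intro a b
    funext r
    show ((a : Matrix.SpecialLinearGroup (Fin n) F) * b).1 r r = _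
    rw [Matrix.SpecialLinearGroup.coe_mul, IsMon.mul_apply b.2]
    simp

theorem dg_apply {n : ℕ} (t : Hsub n F) (r : Fin n) : dg n F t r = (t : Matrix.SpecialLinearGroup (Fin n) F).1 r r := rfl

theorem dg_injective {n : ℕ} : Function.Injective (dg n F) := by
  intro a b h
  apply Subtype.ext
  apply Subtype.ext
  ext r c
  by_cases hrc : r = c
  · subst hrc
    exact congrFun h r
  · have h1 : ∀ t : Hsub n F, (t : Matrix.SpecialLinearGroup (Fin n) F).1 r c = 0 := by
      intro t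
      by_contra h2
      exact hrc ((t.2 r c).1 h2)
    rw [h1, h1]

theorem Hsub_comm {n : ℕ} (a b : Hsub n F) : a * b = b * a := by
  apply dg_injective
  rw [map_mul, map_mul, mul_comm]

theorem Hsub_cop {n : ℕ} {p : ℕ} [hp : Fact p.Prime] [CharP F p] : (Nat.card (Hsub n F)).Coprime p := by
  rw [Nat.coprime_comm, hp.out.coprime_iff_not_dvd]
  intro hd
  obtain ⟨x, hx⟩ := exists_prime_orderOf_dvd_card' p hd
  have h1 : x ^ p = 1 := by
    rw [← hx]
    exact pow_orderOf_eq_one x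
  have h2 : dg n F x = 1 := by
    funext r
    have h3 := congrFun (congrArg (dg n F) h1) r
    rw [map_pow, map_one, Pi.pow_apply, Pi.one_apply] at h3
    have h4 : (dg n F x r - 1) ^ p = 0 := by
      rw [sub_pow_char, h3, one_pow, sub_self]
    exact sub_eq_zero.1 (pow_eq_zero_iff hp.out.ne_zero |>.1 h4)
  have h5 : x = 1 := dg_injective (h2.trans (map_one _).symm)
  rw [h5, orderOf_one] at hx
  exact hp.out.one_lt.ne hx

theorem not_B_conj (i : Fin (m + 1)) : eE i * xx i 1 * (eE i)⁻¹ ∉ (bn m F).B := by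
  intro hmem
  rw [xx, eE, tv_conj_ee] at hmem
  have h1 := up_of_mem hmem (Fin.castSucc_lt_succ (i := i))
  rw [tv_apply] at h1
  simp [(hi i).symm] at h1

theorem len_e_e (i : Fin (m + 1)) {n : SLG} (hn : n ∈ (bn m F).N) :
    len (bn m F) (eE i * (eE i * n)) = len (bn m F) n := by
  have hs : eE i ∈ (bn m F).S := ⟨i, rfl⟩
  apply len_congr
  have e : (eE i * (eE i * n))⁻¹ * n = n⁻¹ * (eE i * eE i)⁻¹ * n := by group
  rw [e]
  exact conj_inv_B hn (inv_sq_mem_B hs) ((bn m F).N.inv_mem (sq_mem_N hs))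

variable (m F) in
/-- The split structure on `SL_n(F)`. -/
noncomputable def spl (p : ℕ) [hp : Fact p.Prime] [CharP F p] : Spl (bn m F) p F (Fin (m + 1)) where
  U := USL (m + 2) F
  e := eE
  x := xx
  hh := hE
  he := fun i => ⟨i, rfl⟩
  hes := by
    rintro _ ⟨i, rfl⟩
    exact ⟨i, rfl⟩
  hp := hp.out
  hU := by
    obtain ⟨f, -, hf⟩ := FiniteField.card F p
    exact isPGroup_USL (f := f) (by rw [Nat.card_eq_fintype_card, hf])
  U_le := le_sup_left
  U_norm := by
    intro b hb u hu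
    obtain ⟨u', hu', h, hh, rfl⟩ := (core (m := m) (F := F)).mem_B_iff.1 hb
    have e : u' * h * u * (u' * h)⁻¹ = u' * (h * u * h⁻¹) * u'⁻¹ := by group
    rw [e]
    exact (USL _ _).mul_mem ((USL _ _).mul_mem hu' (H_norm_U' hh hu)) ((USL _ _).inv_mem hu')
  B_dec := by
    intro b hb
    obtain ⟨u, hu, h, hh, rfl⟩ := (core (m := m) (F := F)).mem_B_iff.1 hb
    refine ⟨u, hu, h, ?_, rfl⟩
    rw [bn_T]
    exact hh
  T_cop := by
    rw [bn_T]
    exact Hsub_cop
  T_comm := by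
    intro t ht t' ht'
    rw [bn_T] at ht ht'
    exact congrArg Subtype.val (Hsub_comm ⟨t, ht⟩ ⟨t', ht'⟩)
  x_add := fun i a b => Matrix.SpecialLinearGroup.transvection_add _ _ _
  x_mem := fun i a => isUT_tv Fin.castSucc_lt_succ a
  x_dec := by
    intro i u hu
    set a := (u : Matrix (Fin (m + 2)) (Fin (m + 2)) F) i.castSucc i.succ with ha
    refine ⟨a, xx i (-a) * u, (USL _ _).mul_mem (isUT_tv Fin.castSucc_lt_succ _) hu, ?_, ?_⟩
    · rw [← mul_assoc, xx, xx, ← Matrix.SpecialLinearGroup.transvection_add]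
      simp
    · refine eE_inv_conj ⟨(USL _ _).mul_mem (isUT_tv Fin.castSucc_lt_succ _) hu, ?_⟩
      rw [Matrix.SpecialLinearGroup.coe_mul]
      show (Matrix.transvection i.castSucc i.succ (-a) * (u : Matrix (Fin (m + 2)) (Fin (m + 2)) F)) i.castSucc i.succ = 0
      rw [Matrix.transvection_mul_apply_same, hu.2, ← ha]
      ring
  x_asc := by
    intro i n hn hlen a
    obtain ⟨π, hπ⟩ := hn
    have hne : π⁻¹ i.castSucc ≠ π⁻¹ i.succ := π⁻¹.injective.ne (hi i)
    rcases lt_or_gt_of_ne hne with h | h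
    · obtain ⟨b, -, hb⟩ := IsMon.conj_tv hπ.inv (hi i)
      have h1 := hb a
      rw [inv_inv] at h1
      rw [xx, h1]
      exact isUT_tv h _
    · exfalso
      have hs : eE i ∈ (bn m F).S := ⟨i, rfl⟩
      have hn' : eE i * n ∈ (bn m F).N := ⟨_, (isMon_eE i).mul hπ⟩
      have hx : xx i 1 ∈ (bn m F).B := Subgroup.mem_sup_left (isUT_tv Fin.castSucc_lt_succ _)
      have hnx : (eE i * n)⁻¹ * xx i 1 * (eE i * n) ∈ (bn m F).B := by
        obtain ⟨b, -, hb⟩ := IsMon.conj_tv ((isMon_eE (F := F) i).mul hπ).inv (hi i)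
        have h1 := hb 1
        rw [inv_inv] at h1
        rw [xx, h1]
        refine Subgroup.mem_sup_left (isUT_tv ?_ _)
        simp only [_root_.mul_inv_rev, Equiv.Perm.mul_apply, sw_inv]
        simp only [sw, Equiv.swap_apply_left, Equiv.swap_apply_right]
        exact h
      have h1 := len_lt_of_conj hs hn' hx (not_B_conj i) hnx
      rw [len_e_e i ⟨π, hπ⟩] at h1
      omega
  rank1 := by
    intro i a ha
    have ha' : -a ≠ 0 := neg_ne_zero.2 ha
    refine ⟨-a⁻¹, -a⁻¹, ?_⟩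
    apply Subtype.ext
    rw [Matrix.SpecialLinearGroup.coe_mul, Matrix.SpecialLinearGroup.coe_mul, Matrix.SpecialLinearGroup.coe_mul,
      Matrix.SpecialLinearGroup.coe_mul, Matrix.SpecialLinearGroup.coe_mul,
      xx, xx, eE, hE, tv_coe_Phi (hi i), tv_coe_Phi (hi i), ee_coe, hh_coe (hi i) ha',
      Phi_mul (hi i), Phi_mul (hi i), Phi_mul (hi i), Phi_mul (hi i), Phi_mul (hi i)]
    congr 1 <;> field_simp <;> ring
  h_mem := by
    intro i a ha
    rw [bn_T]
    exact isMon_hE i ha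
  card_F := by
    obtain ⟨f, -, hf⟩ := FiniteField.card F p
    rw [hf]
    exact dvd_pow_self p f.pos.ne'

end Cfsg.Agent.Lib.StBlocks.SLSpl
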